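/-
Transvections and involutions of the special linear group in dimension three: a subgroup with a transvection for
every incident point and hyperplane is everything, and every centre on every axis gives such a pair.
-/
import Cfsg.Agent.Lib.MaxCl.Transvection
import Cfsg.Agent.Lib.GL.Basic

set_option autoImplicit false
set_option linter.unusedSectionVars false

namespace Cfsg.Agent.MaxCl.SLThree

open scoped MatrixGroups Matrix

variable {F : Type*} [Field F]

/-- `M` has a non-trivial transvection with centre `v` and axis `φ`. -/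
def Flag (M : Subgroup (GL (Fin 3) F)) (v : Fin 3 → F) (φ : (Fin 3 → F) →ₗ[F] F) : Prop :=
  φ v = 0 ∧ ∃ c : F, c ≠ 0 ∧ tv φ (c • v) ∈ M

/-- Centres of transvections. -/
def Centre (M : Subgroup (GL (Fin 3) F)) (v : Fin 3 → F) : Prop := v ≠ 0 ∧ ∃ φ, φ ≠ 0 ∧ Flag M v φ

/-- Axes of transvections. -/
def Axis (M : Subgroup (GL (Fin 3) F)) (φ : (Fin 3 → F) →ₗ[F] F) : Prop := φ ≠ 0 ∧ ∃ v, v ≠ 0 ∧ Flag M v φ

variable {M : Subgroup (GL (Fin 3) F)}

theorem act_tv_inv {φ : (Fin 3 → F) →ₗ[F] F} {v : Fin 3 → F} (h : φ v = 0) (x : Fin 3 → F) :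
    act (tv φ v)⁻¹ x = x - φ x • v := by
  apply act_injective (tv φ v)
  rw [act_act_inv, act_tv h, map_sub, map_smul, h]
  simp

theorem tv_det {φ : (Fin 3 → F) →ₗ[F] F} {v : Fin 3 → F} (h : φ v = 0) :
    tv φ v ∈ Cfsg.Geo.specialLinear (Fin 3) F := by
  refine MonoidHom.mem_ker.2 (Units.ext ?_)
  rw [Matrix.GeneralLinearGroup.val_det_apply, det_eq_of_fix_hyperplane (act_tv h), h]
  simp

theorem conj_mem {g : GL (Fin 3) F} (hg : g ∈ M) {φ : (Fin 3 → F) →ₗ[F] F} {v : Fin 3 → F} (h : φ v = 0)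
    (hm : tv φ v ∈ M) : tv (φ ∘ₗ act g⁻¹) (act g v) ∈ M :=
  conj_tv g h ▸ M.mul_mem (M.mul_mem hg hm) (M.inv_mem hg)

/-- The commutator of transvections, the centre of the first lying on the axis of the second. -/
theorem comm_mem {φ χ : (Fin 3 → F) →ₗ[F] F} {v w : Fin 3 → F} (h : φ v = 0) (h' : χ w = 0) (h'' : χ v = 0)
    (m : tv φ v ∈ M) (m' : tv χ w ∈ M) : tv χ (φ w • v) ∈ M := by
  have h1 := conj_mem m h' m'
  have e : χ ∘ₗ act (tv φ v)⁻¹ = χ := LinearMap.ext fun x => by simp [act_tv_inv h, h'']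
  rw [e, act_tv h, ← tv_add_right χ w _ h' (by simp [h''])] at h1
  exact (M.mul_mem_cancel_left m').1 h1

theorem Flag.smul_axis {v : Fin 3 → F} {φ : (Fin 3 → F) →ₗ[F] F} (h : Flag M v φ) {e : F} (he : e ≠ 0) :
    Flag M v (e • φ) := by
  obtain ⟨hv, c, hc, hm⟩ := h
  refine ⟨by simp [hv], c / e, div_ne_zero hc he, ?_⟩
  rwa [tv_smul_swap _ _ _ (by simp [hv]), smul_smul, mul_div_cancel₀ _ he]

theorem Flag.smul_centre {v : Fin 3 → F} {φ : (Fin 3 → F) →ₗ[F] F} (h : Flag M v φ) {e : F} (he : e ≠ 0) :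
    Flag M (e • v) φ := by
  obtain ⟨hv, c, hc, hm⟩ := h
  refine ⟨by simp [hv], c / e, div_ne_zero hc he, ?_⟩
  rwa [smul_smul, div_mul_cancel₀ _ he]

theorem finrank_ker {χ : (Fin 3 → F) →ₗ[F] F} (hχ : χ ≠ 0) : Module.finrank F (LinearMap.ker χ) = 2 := by
  have h1 : LinearMap.range χ = ⊤ := LinearMap.range_eq_top.2 (LinearMap.surjective hχ)
  have h2 := LinearMap.finrank_range_add_finrank_ker χ
  rw [h1, finrank_top, Module.finrank_self, Module.finrank_pi, Fintype.card_fin] at h2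
  omega

/-- Two functionals killing two independent vectors are proportional. -/
theorem prop_of_two {φ χ : (Fin 3 → F) →ₗ[F] F} (hχ : χ ≠ 0) {v w : Fin 3 → F}
    (hind : LinearIndependent F ![v, w]) (h1 : χ v = 0) (h2 : χ w = 0) (h3 : φ v = 0) (h4 : φ w = 0) :
    ∃ e : F, φ = e • χ := by
  have hker : Submodule.span F (Set.range ![v, w]) = LinearMap.ker χ := by
    refine Submodule.eq_of_le_of_finrank_le (Submodule.span_le.2 ?_) ?_
    · rintro _ ⟨i, rfl⟩
      fin_cases i <;> simp [h1, h2]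
    · rw [finrank_span_eq_card hind, finrank_ker hχ, Fintype.card_fin]
  obtain ⟨u, hu⟩ := LinearMap.surjective hχ 1
  refine ⟨φ u, LinearMap.ext fun x => ?_⟩
  have hle : LinearMap.ker χ ≤ LinearMap.ker φ := hker ▸ Submodule.span_le.2 (by
    rintro _ ⟨i, rfl⟩
    fin_cases i <;> simp [h3, h4])
  have h5 : φ (x - χ x • u) = 0 := hle (show χ (x - χ x • u) = 0 by simp [hu])
  rw [map_sub, map_smul, sub_eq_zero] at h5
  simp [h5, mul_comm]

/-- Every centre on every axis is a flag. -/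
theorem flag_of_centre_axis {v : Fin 3 → F} {χ : (Fin 3 → F) →ₗ[F] F} (hv : Centre M v) (hχ : Axis M χ)
    (h : χ v = 0) : Flag M v χ := by
  obtain ⟨hv0, φ, hφ0, hφv, c, hc, hm⟩ := hv
  obtain ⟨hχ0, w, hw0, hχw, d, hd, hn⟩ := hχ
  by_cases hφw : φ w = 0
  · by_cases hind : LinearIndependent F ![v, w]
    · obtain ⟨e, rfl⟩ := prop_of_two hχ0 hind h hχw hφv hφw
      have he : e ≠ 0 := by rintro rfl; simp at hφ0
      refine ⟨h, e * c, mul_ne_zero he hc, ?_⟩
      rwa [tv_smul_swap _ _ _ (by simp [h]), smul_smul] at hm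
    · rw [LinearIndependent.pair_iff' hv0] at hind
      push Not at hind
      obtain ⟨a, rfl⟩ := hind
      have ha : a ≠ 0 := by rintro rfl; simp at hw0
      exact ⟨h, d * a, mul_ne_zero hd ha, by rwa [← smul_smul]⟩
  · refine ⟨h, d * φ w * c, mul_ne_zero (mul_ne_zero hd hφw) hc, ?_⟩
    have := comm_mem (φ := φ) (v := c • v) (χ := χ) (w := d • w) (by simp [hφv]) (by simp [hχw]) (by simp [h]) hm hn
    simpa [smul_smul] using this

/-- The coefficients of the transvections in `M` at a coordinate pair. -/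
def coef (M : Subgroup (GL (Fin 3) F)) (i j : Fin 3) : Set F :=
  {a | tv (LinearMap.proj j) (a • Pi.single i 1) ∈ M}

theorem coef_mul {i j k : Fin 3} (hij : i ≠ j) (hjk : j ≠ k) (hik : i ≠ k) {a b : F} (ha : a ∈ coef M i j)
    (hb : b ∈ coef M j k) : a * b ∈ coef M i k := by
  have := comm_mem (φ := LinearMap.proj j) (v := a • Pi.single i 1) (χ := LinearMap.proj k) (w := b • Pi.single j 1)
    (by simp [hij.symm]) (by simp [hjk.symm]) (by simp [hik.symm]) ha hb
  simpa [coef, smul_smul, mul_comm] using this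

theorem exists_ne_zero_coef (hall : ∀ v φ, v ≠ 0 → φ ≠ 0 → φ v = 0 → Flag M v φ) {i j : Fin 3} (hij : i ≠ j) :
    ∃ a ∈ coef M i j, a ≠ 0 := by
  obtain ⟨-, c, hc, hm⟩ := hall (Pi.single i 1) (LinearMap.proj j) (by simp)
    (fun h => by simpa using LinearMap.congr_fun h (Pi.single j 1)) (by simp [hij.symm])
  exact ⟨c, hm, hc⟩

theorem image_eq [Finite F] {S T : Set F} {y : F} (hy : y ≠ 0) (h : ∀ a ∈ S, y * a ∈ T) (hc : T.ncard ≤ S.ncard) :
    (fun a => y * a) '' S = T :=
  Set.eq_of_subset_of_ncard_le (Set.image_subset_iff.2 h)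
    (by rwa [Set.ncard_image_of_injective _ (mul_right_injective₀ hy)]) (Set.toFinite _)

/-- A transvection for each incident pair gives the special linear group. -/
theorem sl_le_of_all_flags [Fintype F] (hall : ∀ v φ, v ≠ 0 → φ ≠ 0 → φ v = 0 → Flag M v φ) :
    Cfsg.Geo.specialLinear (Fin 3) F ≤ M := by
  classical
  have hle : ∀ i j k : Fin 3, i ≠ j → j ≠ k → i ≠ k → (coef M i j).ncard ≤ (coef M i k).ncard ∧
      (coef M j k).ncard ≤ (coef M i k).ncard := by
    intro i j k hij hjk hik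
    obtain ⟨a, ha, ha0⟩ := exists_ne_zero_coef hall hij
    obtain ⟨b, hb, hb0⟩ := exists_ne_zero_coef hall hjk
    exact ⟨Set.ncard_le_ncard_of_injOn (fun x => x * b) (fun x hx => coef_mul hij hjk hik hx hb)
        (fun x _ y _ e => mul_right_cancel₀ hb0 e) (Set.toFinite _),
      Set.ncard_le_ncard_of_injOn (fun x => a * x) (fun x hx => coef_mul hij hjk hik ha hx)
        (fun x _ y _ e => mul_left_cancel₀ ha0 e) (Set.toFinite _)⟩
  have hfull : ∀ i j : Fin 3, i ≠ j → ∀ x : F, x ∈ coef M i j := by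
    intro i j hij
    obtain ⟨k, hik, hjk⟩ : ∃ k, i ≠ k ∧ j ≠ k := by revert i j; decide
    have h1 := hle i j k hij hjk hik
    have h2 := hle i k j hik hjk.symm hij
    have h3 := hle j i k hij.symm hik hjk
    have h4 := hle j k i hjk hik.symm hij.symm
    obtain ⟨a, ha, ha0⟩ := exists_ne_zero_coef hall hij
    -- multiplying by any scalar gives one and the same set
    have key : ∀ x : F, x ≠ 0 → (fun y => x * y) '' coef M i j = (fun y => a * y) '' coef M j i := by
      intro x hx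
      obtain ⟨-, c, hc, hm⟩ := hall (Pi.single i 1 + x • Pi.single j 1) (LinearMap.proj k)
        (fun h => by simpa [hij] using congrFun h i) (fun h => by simpa using LinearMap.congr_fun h (Pi.single k 1))
        (by simp [hik.symm, hjk.symm])
      have e1 : (fun y => c * x * y) '' coef M i j = coef M i k := by
        refine image_eq (mul_ne_zero hc hx) (fun y hy => ?_) h2.1
        have := comm_mem (φ := LinearMap.proj j) (v := y • Pi.single i 1) (χ := LinearMap.proj k)
          (w := c • (Pi.single i 1 + x • Pi.single j 1)) (by simp [hij.symm]) (by simp [hik.symm, hjk.symm])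
          (by simp [hik.symm]) hy hm
        simpa [coef, smul_smul, hij.symm, mul_comm, mul_assoc] using this
      have e2 : (fun y => c * y) '' coef M j i = coef M j k := by
        refine image_eq hc (fun y hy => ?_) h4.1
        have := comm_mem (φ := LinearMap.proj i) (v := y • Pi.single j 1) (χ := LinearMap.proj k)
          (w := c • (Pi.single i 1 + x • Pi.single j 1)) (by simp [hij]) (by simp [hik.symm, hjk.symm])
          (by simp [hjk.symm]) hy hm
        simpa [coef, smul_smul, hij, mul_comm] using this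
      have e3 : (fun y => a * y) '' coef M j k = coef M i k :=
        image_eq ha0 (fun y hy => coef_mul hij hjk hik ha hy) h3.2
      rw [← e2, ← e1] at e3
      refine Set.image_injective.2 (mul_right_injective₀ hc) ?_
      simp only [Set.image_image] at e3 ⊢
      calc (fun y => c * (x * y)) '' coef M i j = (fun y => c * x * y) '' coef M i j := by simp only [mul_assoc]
        _ = (fun y => a * (c * y)) '' coef M j i := e3.symm
        _ = _ := by simp only [mul_left_comm]
    intro x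
    by_cases hx : x = 0
    · show tv _ _ ∈ M
      rw [show tv (LinearMap.proj j) (x • Pi.single i 1) = 1 from gl_ext fun y => by
        rw [act_tv (by simp [hx]), hx, zero_smul, smul_zero, add_zero, act_one]]
      exact M.one_mem
    have e := (key (x / a) (div_ne_zero hx ha0)).trans (key 1 one_ne_zero).symm
    have hmem : x / a * a ∈ (fun y => 1 * y) '' coef M i j := e ▸ ⟨a, ha, rfl⟩
    simpa [div_mul_cancel₀ _ ha0] using hmem
  intro g hg
  suffices H : ∀ A : Matrix.SpecialLinearGroup (Fin 3) F, Matrix.SpecialLinearGroup.toGL A ∈ M by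
    have hd : (g : Matrix (Fin 3) (Fin 3) F).det = 1 := by
      rw [← Matrix.GeneralLinearGroup.val_det_apply, MonoidHom.mem_ker.1 hg, Units.val_one]
    have := H ⟨(g : Matrix (Fin 3) (Fin 3) F), hd⟩
    rwa [show Matrix.SpecialLinearGroup.toGL ⟨(g : Matrix (Fin 3) (Fin 3) F), hd⟩ = g from Units.ext rfl] at this
  intro A
  refine Cfsg.Agent.GL.SL_induction (fun A => Matrix.SpecialLinearGroup.toGL A ∈ M) (by simp) (fun i j hij c => ?_)
    (fun A B hA hB => by rw [map_mul]; exact M.mul_mem hA hB) A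
  have h0 : (LinearMap.proj j : (Fin 3 → F) →ₗ[F] F) (c • Pi.single i 1) = 0 := by simp [hij.symm]
  rw [show Matrix.SpecialLinearGroup.toGL (Matrix.SpecialLinearGroup.transvection hij c) =
    tv (LinearMap.proj j) (c • Pi.single i 1) from gl_ext fun x => by
      rw [act_tv h0, act_apply]
      change ((Matrix.SpecialLinearGroup.transvection hij c : Matrix.SpecialLinearGroup (Fin 3) F) :
        Matrix (Fin 3) (Fin 3) F) *ᵥ x = _
      rw [Matrix.SpecialLinearGroup.transvection_coe, Matrix.add_mulVec, Matrix.one_mulVec, Matrix.single_mulVec]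
      funext k
      by_cases hk : k = i <;> simp [hk, mul_comm]]
  exact hfull i j hij c

/-- All points centres and all lines axes. -/
theorem sl_le_of_all_centres [Fintype F] (h1 : ∀ v, v ≠ 0 → Centre M v) (h2 : ∀ φ, φ ≠ 0 → Axis M φ) :
    Cfsg.Geo.specialLinear (Fin 3) F ≤ M :=
  sl_le_of_all_flags fun v φ hv hφ h => flag_of_centre_axis (h1 v hv) (h2 φ hφ) h

theorem act_sq {g : GL (Fin 3) F} (hg : g * g = 1) (x : Fin 3 → F) : act g (act g x) = x := by
  rw [← act_mul, hg, act_one]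

/-- An involution in characteristic two is a transvection. -/
theorem exists_tv_of_sq (h2 : (2 : F) = 0) {g : GL (Fin 3) F} (hg : g * g = 1) (h1 : g ≠ 1) :
    ∃ (φ : (Fin 3 → F) →ₗ[F] F) (v : Fin 3 → F), φ ≠ 0 ∧ v ≠ 0 ∧ φ v = 0 ∧ g = tv φ v := by
  obtain ⟨N, hN⟩ : ∃ N : (Fin 3 → F) →ₗ[F] (Fin 3 → F), N = act g - LinearMap.id := ⟨_, rfl⟩
  have hNx : ∀ x, N x = act g x - x := fun x => by rw [hN]; rfl
  have hN2 : LinearMap.range N ≤ LinearMap.ker N := by
    rintro _ ⟨x, rfl⟩
    rw [LinearMap.mem_ker, hNx, hNx, map_sub, act_sq hg]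
    linear_combination (norm := module) (-(act g x - x)) * 0 + congrArg (fun t : F => t • (x - act g x)) h2
  obtain ⟨v₀, hv₀⟩ : ∃ x, N x ≠ 0 := by
    by_contra h
    push Not at h
    exact h1 (gl_ext fun x => by rw [act_one, ← sub_eq_zero, ← hNx, h])
  have hr := LinearMap.finrank_range_add_finrank_ker N
  rw [Module.finrank_pi, Fintype.card_fin] at hr
  have hle := Submodule.finrank_mono hN2
  have hr1 : Module.finrank F (LinearMap.range N) = 1 := by
    have : LinearMap.range N ≠ ⊥ := fun h => hv₀ (by simpa [h] using LinearMap.mem_range_self N v₀)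
    have := Submodule.one_le_finrank_iff.2 this
    omega
  have hsp : ∀ x, N x ∈ F ∙ N v₀ := fun x => by
    rw [Submodule.eq_of_le_of_finrank_le ((Submodule.span_singleton_le_iff_mem _ _).2 (LinearMap.mem_range_self N v₀))
      (by rw [hr1, finrank_span_singleton hv₀])]
    exact LinearMap.mem_range_self N x
  obtain ⟨i, hi⟩ := Function.ne_iff.1 hv₀
  obtain ⟨φ, hφ⟩ : ∃ φ : (Fin 3 → F) →ₗ[F] F, φ = (N v₀ i)⁻¹ • (LinearMap.proj i ∘ₗ N) := ⟨_, rfl⟩
  have hN' : ∀ x, N x = φ x • N v₀ := by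
    intro x
    obtain ⟨r, hr⟩ := Submodule.mem_span_singleton.1 (hsp x)
    have hh : φ x = (N v₀ i)⁻¹ * N x i := by rw [hφ]; rfl
    rw [hh, ← hr, Pi.smul_apply, smul_eq_mul, mul_comm r, ← mul_assoc, inv_mul_cancel₀ hi, one_mul]
  have h0 : φ (N v₀) = 0 := by
    have := hN' (N v₀)
    rw [LinearMap.mem_ker.1 (hN2 (LinearMap.mem_range_self N v₀))] at this
    exact (smul_eq_zero.1 this.symm).resolve_right hv₀
  refine ⟨φ, N v₀, fun h => hv₀ (by rw [hN' v₀, h]; simp), hv₀, h0, gl_ext fun x => ?_⟩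
  rw [act_tv h0, ← hN', hNx]
  abel

/-- An involution in odd characteristic is a homology. -/
theorem exists_homology_of_sq (h2 : (2 : F) ≠ 0) {g : GL (Fin 3) F} (hs : g ∈ Cfsg.Geo.specialLinear (Fin 3) F)
    (hg : g * g = 1) (h1 : g ≠ 1) :
    ∃ (φ : (Fin 3 → F) →ₗ[F] F) (v : Fin 3 → F), φ v = 1 ∧ ∀ x, act g x = -x + (2 * φ x) • v := by
  obtain ⟨P, hP⟩ : ∃ P : (Fin 3 → F) →ₗ[F] (Fin 3 → F), P = act g + LinearMap.id := ⟨_, rfl⟩
  have hPx : ∀ x, P x = act g x + x := fun x => by rw [hP]; rfl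
  have hfix : ∀ x, act g (P x) = P x := fun x => by rw [hPx, map_add, act_sq hg, add_comm]
  have hd : (g : Matrix (Fin 3) (Fin 3) F).det = 1 := by
    rw [← Matrix.GeneralLinearGroup.val_det_apply, MonoidHom.mem_ker.1 hs, Units.val_one]
  obtain ⟨v₀, hv₀⟩ : ∃ x, P x ≠ 0 := by
    by_contra h
    push Not at h
    have e : (g : Matrix (Fin 3) (Fin 3) F) = -1 := by
      apply Matrix.toLin'.injective
      refine LinearMap.ext fun x => ?_
      rw [toLin'_eq_act, map_neg, LinearMap.neg_apply, Matrix.toLin'_one, LinearMap.id_apply,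
        ← add_eq_zero_iff_eq_neg, ← hPx, h]
    rw [e, Matrix.det_neg, Matrix.det_one, Fintype.card_fin] at hd
    exact h2 (by linear_combination -hd)
  by_cases hr1 : ∀ x, P x ∈ F ∙ P v₀
  · obtain ⟨i, hi⟩ := Function.ne_iff.1 hv₀
    obtain ⟨φ, hφ⟩ : ∃ φ : (Fin 3 → F) →ₗ[F] F, φ = ((2 : F) * P v₀ i)⁻¹ • (LinearMap.proj i ∘ₗ P) := ⟨_, rfl⟩
    have hP' : ∀ x, P x = (2 * φ x) • P v₀ := by
      intro x
      obtain ⟨r, hr⟩ := Submodule.mem_span_singleton.1 (hr1 x)
      have hh : φ x = (2 * P v₀ i)⁻¹ * P x i := by rw [hφ]; rfl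
      rw [hh, ← hr, Pi.smul_apply, smul_eq_mul]
      congr 1
      field_simp [show P v₀ i ≠ 0 from hi]
    refine ⟨φ, P v₀, ?_, fun x => ?_⟩
    · rw [hφ]
      show (2 * P v₀ i)⁻¹ * P (P v₀) i = 1
      rw [hPx (P v₀), hfix]
      simp only [Pi.add_apply]
      rw [← two_mul, inv_mul_cancel₀ (mul_ne_zero h2 hi)]
    · rw [← hP', hPx]; abel
  · exfalso
    push Not at hr1
    obtain ⟨w₀, hw₀⟩ := hr1
    obtain ⟨N, hN⟩ : ∃ N : (Fin 3 → F) →ₗ[F] (Fin 3 → F), N = act g - LinearMap.id := ⟨_, rfl⟩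
    have hNx : ∀ x, N x = act g x - x := fun x => by rw [hN]; rfl
    obtain ⟨u, hu⟩ : ∃ u, N u ≠ 0 := by
      by_contra h
      push Not at h
      exact h1 (gl_ext fun x => by rw [act_one, ← sub_eq_zero, ← hNx, h])
    have hind : LinearIndependent F ![P v₀, P w₀] :=
      (LinearIndependent.pair_iff' hv₀).2 fun a ha => hw₀ (Submodule.mem_span_singleton.2 ⟨a, ha⟩)
    have hk : Submodule.span F (Set.range ![P v₀, P w₀]) ≤ LinearMap.ker N := Submodule.span_le.2 (by
      rintro _ ⟨i, rfl⟩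
      fin_cases i <;> simp [hNx, hfix])
    have hr := LinearMap.finrank_range_add_finrank_ker N
    rw [Module.finrank_pi, Fintype.card_fin] at hr
    have hle := Submodule.finrank_mono hk
    rw [finrank_span_eq_card hind, Fintype.card_fin] at hle
    have hsp : ∀ x, N x ∈ F ∙ N u := fun x => by
      rw [Submodule.eq_of_le_of_finrank_le ((Submodule.span_singleton_le_iff_mem _ _).2 (LinearMap.mem_range_self N u))
        (by rw [finrank_span_singleton hu]; omega)]
      exact LinearMap.mem_range_self N x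
    obtain ⟨i, hi⟩ := Function.ne_iff.1 hu
    obtain ⟨φ, hφ⟩ : ∃ φ : (Fin 3 → F) →ₗ[F] F, φ = (N u i)⁻¹ • (LinearMap.proj i ∘ₗ N) := ⟨_, rfl⟩
    have hg' : ∀ x, act g x = x + φ x • N u := by
      intro x
      obtain ⟨r, hr⟩ := Submodule.mem_span_singleton.1 (hsp x)
      have hh : φ x = (N u i)⁻¹ * N x i := by rw [hφ]; rfl
      rw [hh, ← hr, Pi.smul_apply, smul_eq_mul, mul_comm r, ← mul_assoc, inv_mul_cancel₀ hi, one_mul, hr, hNx]
      abel
    rw [det_eq_of_fix_hyperplane hg'] at hd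
    have hφu : φ (N u) = 0 := by linear_combination hd
    have e1 := hg' u
    rw [show φ u = 1 by rw [hφ]; exact inv_mul_cancel₀ hi, one_smul] at e1
    have e2 := act_sq hg u
    rw [e1, map_add, hg' (N u), hφu, zero_smul, add_zero, e1, add_assoc, add_eq_left, ← two_smul F,
      smul_eq_zero] at e2
    exact e2.elim h2 hu

/-- Two homologies with one centre give a transvection. -/
theorem tv_of_homologies {g h : GL (Fin 3) F} (hg : g ∈ M) (hh : h ∈ M) {v : Fin 3 → F}
    {φ χ : (Fin 3 → F) →ₗ[F] F} (hφ : φ v = 1) (hχ : χ v = 1) (eg : ∀ x, act g x = -x + (2 * φ x) • v)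
    (eh : ∀ x, act h x = -x + (2 * χ x) • v) : tv ((2 : F) • (χ - φ)) v ∈ M := by
  have h0 : ((2 : F) • (χ - φ)) v = 0 := by simp [hφ, hχ]
  rw [show tv ((2 : F) • (χ - φ)) v = g * h from gl_ext fun x => by
    rw [act_tv h0, act_mul, eh, eg, map_add, map_neg, map_smul, hφ]
    simp
    module]
  exact M.mul_mem hg hh

/-- Two homologies with one axis give a transvection. -/
theorem tv_of_homologies' {g h : GL (Fin 3) F} (hg : g ∈ M) (hh : h ∈ M) {v w : Fin 3 → F}
    {φ : (Fin 3 → F) →ₗ[F] F} (hv : φ v = 1) (hw : φ w = 1) (eg : ∀ x, act g x = -x + (2 * φ x) • v)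
    (eh : ∀ x, act h x = -x + (2 * φ x) • w) : tv φ ((2 : F) • (v - w)) ∈ M := by
  have h0 : φ ((2 : F) • (v - w)) = 0 := by simp [hv, hw]
  rw [show tv φ ((2 : F) • (v - w)) = g * h from gl_ext fun x => by
    rw [act_tv h0, act_mul, eh, eg, map_add, map_neg, map_smul, hw]
    simp
    module]
  exact M.mul_mem hg hh

end Cfsg.Agent.MaxCl.SLThree
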