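/-
The stabiliser of three independent lines is maximal in the special linear group of degree three, over at least five
scalars.

An element with a unit row is split off by a commutator with a generic diagonal element; on the complementary plane
rank one semisimple elements give a transvection (over five scalars an explicit word does). A row without zeros makes
every product of opposite entries a third, and then one diagonal conjugate is impossible.
-/
import Cfsg.Agent.Lib.MaxCl.LinearMonomialSmall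
import Cfsg.Agent.Lib.MaxCl.SympSwap
import Cfsg.Agent.Lib.GL.Basic

set_option autoImplicit false

namespace Cfsg.Agent.MaxCl.SLThree.MonoMax

open Matrix Cfsg.Agent.MaxCl Cfsg.Agent.MaxCl.Monom
open scoped MatrixGroups

variable {F : Type*} [Field F] [Fintype F]

theorem others (r : Fin 3) : ∃ a b : Fin 3, a ≠ b ∧ a ≠ r ∧ b ≠ r := by revert r; decide

theorem third_cases {a b r : Fin 3} (hab : a ≠ b) (har : a ≠ r) (hbr : b ≠ r) (k : Fin 3) :
    k = a ∨ k = b ∨ k = r := by revert a b r k; decide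

theorem exists_perm_three {a b i j : Fin 3} (hab : a ≠ b) (hij : i ≠ j) :
    ∃ σ : Equiv.Perm (Fin 3), σ a = i ∧ σ b = j := by revert a b i j; decide

theorem sum_three {a b r : Fin 3} (hab : a ≠ b) (har : a ≠ r) (hbr : b ≠ r) (f : Fin 3 → F) :
    ∑ k, f k = f a + f b + f r := by
  rw [show (Finset.univ : Finset (Fin 3)) = {a, b, r} from (Finset.eq_univ_iff_forall.2 fun k => by
    rcases third_cases hab har hbr k with rfl | rfl | rfl <;> simp).symm,
    Finset.sum_insert (by simp [hab, har]), Finset.sum_pair hbr, add_assoc]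

theorem act_coord (g : GL (Fin 3) F) (y : Fin 3 → F) (i : Fin 3) :
    act g y i = (g : Matrix (Fin 3) (Fin 3) F) i 0 * y 0 + (g : Matrix (Fin 3) (Fin 3) F) i 1 * y 1 +
      (g : Matrix (Fin 3) (Fin 3) F) i 2 * y 2 := by
  rw [act_apply, Matrix.mulVec, dotProduct, Fin.sum_univ_three]

theorem act_unit_row {g : GL (Fin 3) F} {r : Fin 3} (h : ∀ j, j ≠ r → (g : Matrix (Fin 3) (Fin 3) F) r j = 0)
    (y : Fin 3 → F) : act g y r = (g : Matrix (Fin 3) (Fin 3) F) r r * y r := by
  rw [act_apply, Matrix.mulVec, dotProduct, Finset.sum_eq_single r]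
  · intro j _ hj; rw [h j hj, zero_mul]
  · simp

theorem prod_update_const (a : Fin 3) (u l : F) :
    ∏ j, Function.update (fun _ : Fin 3 => l) a u j = u * l ^ 2 := by
  rw [Fin.prod_univ_three]
  fin_cases a <;> simp <;> ring

theorem not_mono_of_col {g : GL (Fin 3) F} {i k j : Fin 3} (hik : i ≠ k)
    (hi : (g : Matrix (Fin 3) (Fin 3) F) i j ≠ 0) (hk : (g : Matrix (Fin 3) (Fin 3) F) k j ≠ 0) : ¬ Mono g := by
  intro hg
  obtain ⟨l, c, hc⟩ := hg j
  have key : ∀ p, (g : Matrix (Fin 3) (Fin 3) F) p j ≠ 0 → p = l := fun p hp => by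
    by_contra h
    rw [← act_single_apply, hc, single_apply', if_neg h] at hp
    exact hp rfl
  exact hik ((key i hi).trans (key k hk).symm)

theorem mono_of_cols {g : GL (Fin 3) F}
    (h : ∀ j i k, i ≠ k → (g : Matrix (Fin 3) (Fin 3) F) i j = 0 ∨ (g : Matrix (Fin 3) (Fin 3) F) k j = 0) :
    Mono g := by
  intro j
  obtain ⟨i, hi⟩ : ∃ i, (g : Matrix (Fin 3) (Fin 3) F) i j ≠ 0 := by
    by_contra h0
    push Not at h0
    have : act g (Pi.single j 1) = act g 0 := by
      funext i; rw [act_single_apply, h0 i, map_zero]; rfl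
    simpa using congrFun (act_injective g this) j
  refine ⟨i, (g : Matrix (Fin 3) (Fin 3) F) i j, ?_⟩
  funext k
  rw [act_single_apply, single_apply']
  by_cases hk : k = i
  · subst hk; simp
  · rw [if_neg hk]
    exact (h j k i hk).resolve_right hi

variable {M : Subgroup (GL (Fin 3) F)}

/-- One elementary transvection and the monomial group generate everything. -/
theorem sl_le_of_elem (hM : Over M) {a b : Fin 3} (hab : a ≠ b) {c : F} (hc : c ≠ 0) {h : GL (Fin 3) F}
    (hh : h ∈ M) (hhx : ∀ y, act h y = y + (c * y b) • Pi.single a 1) :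
    Cfsg.Geo.specialLinear (Fin 3) F ≤ M := by
  have hall : ∀ i j, i ≠ j → ∀ e : F, ∃ k ∈ M, ∀ y : Fin 3 → F, act k y = y + (e * y j) • Pi.single i 1 := by
    intro i j hij e
    rcases eq_or_ne e 0 with rfl | he
    · exact ⟨1, M.one_mem, fun y => by simp [act_one]⟩
    obtain ⟨σ, hσa, hσb⟩ := exists_perm_three hab hij
    obtain ⟨r, hra, hrb⟩ : ∃ r : Fin 3, r ≠ a ∧ r ≠ b := by
      clear hσa hσb hc hh hhx hij he; revert a b; decide
    obtain ⟨g, hg, γ, hγ, hgr, hgj⟩ := exists_mem_pm_off hM σ r (Function.update (1 : Fin 3 → F) a (e / c))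
      (fun k _ => by by_cases hk : k = a <;> simp [hk, he, hc])
    obtain ⟨d, hd⟩ : ∃ d : Fin 3 → F, d = Function.update (Function.update (1 : Fin 3 → F) a (e / c)) r γ :=
      ⟨_, rfl⟩
    have hcol : ∀ k, act g (Pi.single k 1) = d k • Pi.single (σ k) 1 := by
      intro k
      rcases eq_or_ne k r with rfl | hk
      · rw [hgr, hd]; simp
      · rw [hgj k hk, hd]; simp [hk]
    refine ⟨g * h * g⁻¹, M.mul_mem (M.mul_mem hg hh) (M.inv_mem hg), fun y => ?_⟩
    have hb' : act g⁻¹ y b = y j := by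
      have := act_mono_coord hcol (act g⁻¹ y) b
      rw [act_act_inv, hσb, hd, Function.update_of_ne hrb.symm, Function.update_of_ne hab.symm] at this
      simpa using this.symm
    rw [act_mul, act_mul, hhx, map_add, map_smul, act_act_inv, hb', hcol, hd, Function.update_of_ne hra.symm,
      Function.update_self, hσa, smul_smul]
    congr 2
    field_simp
  intro g hg
  suffices H : ∀ A : Matrix.SpecialLinearGroup (Fin 3) F, Matrix.SpecialLinearGroup.toGL A ∈ M by
    have := H ⟨(g : Matrix (Fin 3) (Fin 3) F), mem_specialLinear_iff.1 hg⟩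
    rwa [show Matrix.SpecialLinearGroup.toGL ⟨(g : Matrix (Fin 3) (Fin 3) F), mem_specialLinear_iff.1 hg⟩ = g
      from Units.ext rfl] at this
  intro A
  refine Cfsg.Agent.GL.SL_induction (fun A => Matrix.SpecialLinearGroup.toGL A ∈ M) (by simp) (fun i j hij e => ?_)
    (fun A B hA hB => by rw [map_mul]; exact M.mul_mem hA hB) A
  obtain ⟨k, hk, hkx⟩ := hall i j hij e
  rwa [show Matrix.SpecialLinearGroup.toGL (Matrix.SpecialLinearGroup.transvection hij e) = k from gl_ext fun y => by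
    rw [hkx, act_apply]
    change ((Matrix.SpecialLinearGroup.transvection hij e : Matrix.SpecialLinearGroup (Fin 3) F) :
      Matrix (Fin 3) (Fin 3) F) *ᵥ y = _
    rw [Matrix.SpecialLinearGroup.transvection_coe, Matrix.add_mulVec, Matrix.one_mulVec, Matrix.single_mulVec]
    funext p
    by_cases hp : p = i <;> simp [hp]]

/-- A translation with axis `y r = 0`. -/
theorem sl_le_of_translation (hM : Over M) (h5 : 5 ≤ Fintype.card F) {r : Fin 3} {w : Fin 3 → F} (hwr : w r = 0)
    (hw : w ≠ 0) {h : GL (Fin 3) F} (hh : h ∈ M) (hhx : ∀ y, act h y = y + y r • w) :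
    Cfsg.Geo.specialLinear (Fin 3) F ≤ M := by
  obtain ⟨a, b, hab, har, hbr⟩ := others r
  have hcases := third_cases hab har hbr
  by_cases hb0 : w b = 0
  · have ha : w a ≠ 0 := fun e => hw (funext fun k => by rcases hcases k with rfl | rfl | rfl <;> assumption)
    refine sl_le_of_elem hM har ha hh fun y => ?_
    rw [hhx]
    funext k
    rcases hcases k with rfl | rfl | rfl <;> simp [hab.symm, har.symm, hwr, hb0, mul_comm]
  by_cases ha0 : w a = 0
  · refine sl_le_of_elem hM hbr hb0 hh fun y => ?_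
    rw [hhx]
    funext k
    rcases hcases k with rfl | rfl | rfl <;> simp [hab, hbr.symm, hwr, ha0, mul_comm]
  obtain ⟨l, hl0, -, hl3⟩ := exists_three_ne h5
  obtain ⟨t, ht, htx, htix⟩ := exists_diag_mem hM (Function.update (fun _ : Fin 3 => l) a (l⁻¹ ^ 2))
    (by rw [prod_update_const]; field_simp)
  have hinv : ∀ y, act h⁻¹ y = y - y r • w := by
    intro y
    apply act_injective h
    rw [act_act_inv, hhx]
    simp [hwr]
  have hc : l⁻¹ ^ 3 - 1 ≠ 0 := fun e => hl3 (by
    have := sub_eq_zero.1 e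
    rwa [inv_pow, inv_eq_one] at this)
  refine sl_le_of_elem hM har (c := (l⁻¹ ^ 3 - 1) * w a) (mul_ne_zero hc ha0)
    (h := t * h * t⁻¹ * h⁻¹) (M.mul_mem (M.mul_mem (M.mul_mem ht hh) (M.inv_mem ht)) (M.inv_mem hh)) fun y => ?_
  rw [act_mul, act_mul, act_mul, hhx, map_add, map_smul, act_act_inv, hinv]
  funext k
  simp only [Pi.add_apply, Pi.smul_apply, Pi.sub_apply, smul_eq_mul, htix, htx, hwr,
    Function.update_of_ne har.symm, mul_zero, sub_zero]
  rcases hcases k with rfl | rfl | rfl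
  · rw [Function.update_self, Pi.single_eq_same]; field_simp; ring
  · rw [Function.update_of_ne hab.symm, Pi.single_eq_of_ne hab.symm]; field_simp; ring
  · simp [har.symm, hwr]

/-- A unit row gives a translation or a unit column. -/
theorem sl_le_or_col (hM : Over M) (h5 : 5 ≤ Fintype.card F) {x : GL (Fin 3) F} (hx : x ∈ M) {r : Fin 3}
    (hrow : ∀ j, j ≠ r → (x : Matrix (Fin 3) (Fin 3) F) r j = 0) :
    Cfsg.Geo.specialLinear (Fin 3) F ≤ M ∨ ∀ k, k ≠ r → (x : Matrix (Fin 3) (Fin 3) F) k r = 0 := by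
  obtain ⟨ρ, hρ⟩ : ∃ ρ, ρ = (x : Matrix (Fin 3) (Fin 3) F) r r := ⟨_, rfl⟩
  have hρ0 : ρ ≠ 0 := by
    obtain ⟨j, hj⟩ := exists_row_ne_zero x r
    rcases eq_or_ne j r with rfl | h
    · rwa [hρ]
    · exact absurd (hrow j h) hj
  obtain ⟨l, hl0, -, hl3⟩ := exists_three_ne h5
  obtain ⟨z, hz, hzx, hzix⟩ := exists_diag_mem hM (Function.update (fun _ : Fin 3 => l) r (l⁻¹ ^ 2))
    (by rw [prod_update_const]; field_simp)
  have hzv : ∀ y, act z y = l • y + ((l⁻¹ ^ 2 - l) * y r) • (Pi.single r 1 : Fin 3 → F) := by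
    intro y; funext k
    rw [hzx]
    by_cases hk : k = r
    · subst hk; simp; ring
    · simp [hk]
  have hziv : ∀ y, act z⁻¹ y = l⁻¹ • y + ((l ^ 2 - l⁻¹) * y r) • (Pi.single r 1 : Fin 3 → F) := by
    intro y; funext k
    rw [hzix]
    by_cases hk : k = r
    · subst hk; simp; ring
    · simp [hk]
  have hxr : ∀ y, act x⁻¹ y r = ρ⁻¹ * y r := by
    intro y
    have := act_unit_row hrow (act x⁻¹ y)
    rw [act_act_inv, ← hρ] at this
    rw [this, inv_mul_cancel_left₀ hρ0]
  obtain ⟨w, hw⟩ : ∃ w : Fin 3 → F, w = (l ^ 3 - 1) • (Pi.single r 1 - ρ⁻¹ • act x (Pi.single r 1)) := ⟨_, rfl⟩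
  have hC : ∀ y, act (x * z * x⁻¹ * z⁻¹) y = y + y r • w := by
    intro y
    rw [act_mul, act_mul, act_mul, hzv, map_add, map_smul, map_smul, act_act_inv, hxr, hziv, hw]
    simp only [Pi.add_apply, Pi.smul_apply, Pi.single_eq_same, smul_eq_mul]
    match_scalars <;> field_simp <;> ring
  have hwr : w r = 0 := by
    rw [hw, Pi.smul_apply, Pi.sub_apply, Pi.smul_apply, Pi.single_eq_same, act_single_apply, ← hρ, smul_eq_mul,
      smul_eq_mul, inv_mul_cancel₀ hρ0, sub_self, mul_zero]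
  by_cases hw0 : w = 0
  · right
    intro k hk
    have := congrFun hw0 k
    rw [hw, Pi.smul_apply, Pi.sub_apply, Pi.smul_apply, Pi.single_eq_of_ne hk, act_single_apply] at this
    simpa [sub_ne_zero.2 hl3, hρ0] using this
  · exact Or.inl (sl_le_of_translation hM h5 hwr hw0
      (M.mul_mem (M.mul_mem (M.mul_mem hx hz) (M.inv_mem hx)) (M.inv_mem hz)) hC)

/-- An elementary transvection on a coordinate plane. -/
theorem sl_le_of_hasElem (hM : Over M) (h5 : 5 ≤ Fintype.card F) {r : Fin 3} (h : HasElem M r) :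
    Cfsg.Geo.specialLinear (Fin 3) F ≤ M := by
  obtain ⟨a, b, hab, har, hbr, hind⟩ := h
  obtain ⟨g, hg, hgx⟩ := hind 1
  replace hgx : ∀ y : Fin 3 → F, y r = 0 → act g y = y + y b • Pi.single a 1 := fun y hy => by
    rw [hgx y hy, single_one_dotProduct]
  have hrow : ∀ j, j ≠ r → (g : Matrix (Fin 3) (Fin 3) F) r j = 0 := fun j hj => by
    rw [← act_single_apply, hgx _ (by simp [hj.symm])]
    simp [hj.symm, har.symm]
  rcases sl_le_or_col hM h5 hg hrow with hSL | hcol
  · exact hSL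
  obtain ⟨γ, hγ⟩ : ∃ γ, γ = (g : Matrix (Fin 3) (Fin 3) F) r r := ⟨_, rfl⟩
  have hcases := third_cases hab har hbr
  have hγ0 : γ ≠ 0 := by
    obtain ⟨j, hj⟩ := exists_row_ne_zero g r
    rcases eq_or_ne j r with rfl | h
    · rwa [hγ]
    · exact absurd (hrow j h) hj
  have hgr : act g (Pi.single r 1) = γ • Pi.single r 1 := by
    funext k
    rw [act_single_apply, single_apply']
    by_cases hk : k = r
    · subst hk; rw [if_pos rfl, hγ]
    · rw [if_neg hk, hcol k hk]
  have hgv : ∀ y : Fin 3 → F, act g y = y + y b • Pi.single a 1 + ((γ - 1) * y r) • Pi.single r 1 := by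
    intro y
    obtain ⟨y', hy'⟩ : ∃ y' : Fin 3 → F, y' = y - y r • Pi.single r 1 := ⟨_, rfl⟩
    have h0 : y' r = 0 := by simp [hy']
    have hb : y' b = y b := by simp [hy', hbr]
    rw [show y = y' + y r • (Pi.single r 1 : Fin 3 → F) by rw [hy', sub_add_cancel], map_add, map_smul, hgr,
      hgx y' h0]
    simp [h0, hb, hbr]
    module
  have hgiv : ∀ y : Fin 3 → F, act g⁻¹ y = y - y b • Pi.single a 1 + ((γ⁻¹ - 1) * y r) • Pi.single r 1 := by
    intro y
    apply act_injective g
    rw [act_act_inv, hgv]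
    funext k
    rcases hcases k with rfl | rfl | rfl <;>
      simp [hab, hab.symm, har, har.symm, hbr, hbr.symm] <;> field_simp <;> ring
  obtain ⟨μ, hμ0, hμ1⟩ := exists_unit_ne h5
  obtain ⟨t, ht, htx, htix⟩ := exists_diag_mem hM (Function.update (Function.update 1 a μ) r μ⁻¹)
    (by rw [prod_update_pair har, mul_inv_cancel₀ hμ0])
  refine sl_le_of_elem hM hab (c := μ - 1) (sub_ne_zero.2 hμ1) (h := t * g * t⁻¹ * g⁻¹)
    (M.mul_mem (M.mul_mem (M.mul_mem ht hg) (M.inv_mem ht)) (M.inv_mem hg)) fun y => ?_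
  rw [act_mul, act_mul, act_mul]
  funext k
  rw [htx, hgv]
  rcases hcases k with rfl | rfl | rfl <;>
    simp [htix, hgiv, hab, hab.symm, har, har.symm, hbr, hbr.symm] <;> field_simp <;> ring

theorem act_vec (g : GL (Fin 3) F) (p q s : F) : act g ![p, q, s] =
    p • act g (Pi.single 0 1) + q • act g (Pi.single 1 1) + s • act g (Pi.single 2 1) := by
  rw [← map_smul, ← map_smul, ← map_smul, ← map_add, ← map_add]
  congr 1
  funext k
  fin_cases k <;> simp

/-- The degenerate block over five scalars. -/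
theorem sl_le_of_five (hM : Over M) (h5 : 5 ≤ Fintype.card F) (hq : Fintype.card F = 5) {a b r : Fin 3}
    (hab : a ≠ b) (har : a ≠ r) (hbr : b ≠ r) {x : GL (Fin 3) F} (hx : x ∈ M)
    (hrow : ∀ j, j ≠ r → (x : Matrix (Fin 3) (Fin 3) F) r j = 0)
    (hcol : ∀ k, k ≠ r → (x : Matrix (Fin 3) (Fin 3) F) k r = 0)
    (hab0 : (x : Matrix (Fin 3) (Fin 3) F) a b ≠ 0) (hba0 : (x : Matrix (Fin 3) (Fin 3) F) b a ≠ 0)
    (haa0 : (x : Matrix (Fin 3) (Fin 3) F) a a ≠ 0)
    (hrel : (x : Matrix (Fin 3) (Fin 3) F) a a * (x : Matrix (Fin 3) (Fin 3) F) b b =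
      -((x : Matrix (Fin 3) (Fin 3) F) a b * (x : Matrix (Fin 3) (Fin 3) F) b a)) :
    Cfsg.Geo.specialLinear (Fin 3) F ≤ M := by
  have h50 : (5 : F) = 0 := five_eq_zero hq
  obtain ⟨σ, hσ0, hσ1, hσ2⟩ : ∃ σ : Equiv.Perm (Fin 3), σ 0 = a ∧ σ 1 = b ∧ σ 2 = r := by
    clear hrow hcol hab0 hba0 haa0 hrel; revert a b r; decide
  obtain ⟨g1, hg1, γ1, -, hg1r, hg1j⟩ := exists_mem_pm_off hM σ 2
    ![((x : Matrix (Fin 3) (Fin 3) F) a a)⁻¹, ((x : Matrix (Fin 3) (Fin 3) F) a b)⁻¹, 1]
    (fun j _ => by fin_cases j <;> simp [haa0, hab0])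
  obtain ⟨g2, hg2, γ2, -, hg2r, hg2j⟩ := exists_mem_pm_off hM σ⁻¹ r
    (Function.update (1 : Fin 3 → F) b ((x : Matrix (Fin 3) (Fin 3) F) a a / (x : Matrix (Fin 3) (Fin 3) F) b a))
    (fun j _ => by by_cases hj : j = b <;> simp [hj, haa0, hba0])
  have hcases := third_cases hab har hbr
  have hxa : ∀ j, j ≠ r → act x (Pi.single j 1) = (x : Matrix (Fin 3) (Fin 3) F) a j • Pi.single a 1 +
      (x : Matrix (Fin 3) (Fin 3) F) b j • Pi.single b 1 := by
    intro j hj
    funext k
    rw [act_single_apply]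
    rcases hcases k with rfl | rfl | rfl <;> simp [hab, hab.symm, har.symm, hbr.symm, hrow j hj]
  have hxr : act x (Pi.single r 1) = (x : Matrix (Fin 3) (Fin 3) F) r r • Pi.single r 1 := by
    funext k
    rw [act_single_apply, single_apply']
    by_cases hk : k = r
    · subst hk; simp
    · rw [if_neg hk, hcol k hk]
  have h2a : act g2 (Pi.single a 1) = Pi.single 0 1 := by
    rw [hg2j a har, show σ⁻¹ a = 0 from by rw [← hσ0]; simp]; simp [hab]
  have h2b : act g2 (Pi.single b 1) =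
      ((x : Matrix (Fin 3) (Fin 3) F) a a / (x : Matrix (Fin 3) (Fin 3) F) b a) • Pi.single 1 1 := by
    rw [hg2j b hbr, show σ⁻¹ b = 1 from by rw [← hσ1]; simp]; simp
  have h2r : act g2 (Pi.single r 1) = γ2 • Pi.single 2 1 := by
    rw [hg2r, show σ⁻¹ r = 2 from by rw [← hσ2]; simp]
  obtain ⟨δ, hδ⟩ : ∃ δ, δ = γ1 * ((x : Matrix (Fin 3) (Fin 3) F) r r * γ2) := ⟨_, rfl⟩
  obtain ⟨y, hy⟩ : ∃ y, y = g2 * x * g1 := ⟨_, rfl⟩
  have hyM : y ∈ M := hy ▸ M.mul_mem (M.mul_mem hg2 hx) hg1
  have hy0 : act y (Pi.single 0 1) = Pi.single 0 1 + Pi.single 1 1 := by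
    rw [hy, act_mul, act_mul, hg1j 0 (by decide), hσ0, map_smul, map_smul, hxa a har, map_add, map_smul,
      map_smul, h2a, h2b]
    simp only [Matrix.cons_val_zero, smul_add, smul_smul]
    match_scalars <;> field_simp
  have hy1 : act y (Pi.single 1 1) = Pi.single 0 1 - Pi.single 1 1 := by
    rw [hy, act_mul, act_mul, hg1j 1 (by decide), hσ1, map_smul, map_smul, hxa b hbr, map_add, map_smul,
      map_smul, h2a, h2b]
    simp only [Matrix.cons_val_one, Matrix.cons_val_zero, smul_add, smul_smul]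
    match_scalars
    · field_simp
    · field_simp
      linear_combination hrel
  have hy2 : act y (Pi.single 2 1) = δ • Pi.single 2 1 := by
    rw [hy, act_mul, act_mul, hg1r, hσ2, map_smul, map_smul, hxr, map_smul, h2r, hδ]
    simp [smul_smul]
  have hdet := mem_specialLinear_iff.1 (hM.1 hyM)
  simp only [Matrix.det_fin_three, ← act_single_apply, hy0, hy1, hy2] at hdet
  simp at hdet
  have hδ2 : δ = 2 := by linear_combination 2 * hdet + δ * h50
  have hyv : ∀ p q s : F, act y ![p, q, s] = ![p + q, p - q, 2 * s] := by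
    intro p q s
    rw [act_vec, hy0, hy1, hy2, hδ2]
    funext k; fin_cases k <;> simp <;> ring
  obtain ⟨n1, hn1, hn1c⟩ := exists_mem_pm hM (Equiv.swap 1 2) ![1, 1, 4]
    (fun j => by fin_cases j <;> simp <;> exact fun e => one_ne_zero (α := F) (by linear_combination h50 - e))
    (by rw [Equiv.Perm.sign_swap (by decide)]; simp [Fin.prod_univ_three]; linear_combination -h50)
  obtain ⟨n2, hn2, hn2c⟩ := exists_mem_pm hM (Equiv.swap 1 2) ![1, 2, 2]
    (fun j => by fin_cases j <;> simp <;> exact fun e => one_ne_zero (α := F) (by linear_combination h50 - 2 * e))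
    (by rw [Equiv.Perm.sign_swap (by decide)]; simp [Fin.prod_univ_three]; linear_combination -h50)
  obtain ⟨n3, hn3, hn3c⟩ := exists_mem_pm hM (Equiv.swap 0 1) ![1, 1, 4]
    (fun j => by fin_cases j <;> simp <;> exact fun e => one_ne_zero (α := F) (by linear_combination h50 - e))
    (by rw [Equiv.Perm.sign_swap (by decide)]; simp [Fin.prod_univ_three]; linear_combination -h50)
  have hv1 : ∀ p q s : F, act n1 ![p, q, s] = ![p, 4 * s, q] := by
    intro p q s
    rw [act_vec, hn1c, hn1c, hn1c]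
    funext k; fin_cases k <;> simp [Equiv.swap_apply_def, mul_comm]
  have hv2 : ∀ p q s : F, act n2 ![p, q, s] = ![p, 2 * s, 2 * q] := by
    intro p q s
    rw [act_vec, hn2c, hn2c, hn2c]
    funext k; fin_cases k <;> simp [Equiv.swap_apply_def, mul_comm]
  have hv3 : ∀ p q s : F, act n3 ![p, q, s] = ![q, p, 4 * s] := by
    intro p q s
    rw [act_vec, hn3c, hn3c, hn3c]
    funext k; fin_cases k <;> simp [Equiv.swap_apply_def, mul_comm]
  obtain ⟨W, hW⟩ : ∃ W, W = y * n1 * y * n2 * y * n2 * y * n3 := ⟨_, rfl⟩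
  have hWM : W ∈ M := hW ▸ M.mul_mem (M.mul_mem (M.mul_mem (M.mul_mem (M.mul_mem (M.mul_mem (M.mul_mem
    hyM hn1) hyM) hn2) hyM) hn2) hyM) hn3
  have hW0 : ∀ p q s : F, act W ![p, q, s] 0 = 4 * p := by
    intro p q s
    simp only [hW, act_mul, hyv, hv1, hv2, hv3, Matrix.cons_val_zero]
    linear_combination (5 * q + p - 48 * s) * h50
  have hW1 : act W ![1, 0, 0] 1 = 2 := by
    simp only [hW, act_mul, hyv, hv1, hv2, hv3, Matrix.cons_val_one, Matrix.cons_val_zero]
    linear_combination (-5 : F) * h50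
  have he0 : (Pi.single 0 1 : Fin 3 → F) = ![1, 0, 0] := by funext k; fin_cases k <;> simp
  have he1 : (Pi.single 1 1 : Fin 3 → F) = ![0, 1, 0] := by funext k; fin_cases k <;> simp
  have he2 : (Pi.single 2 1 : Fin 3 → F) = ![0, 0, 1] := by funext k; fin_cases k <;> simp
  have hrowW : ∀ j, j ≠ (0 : Fin 3) → (W : Matrix (Fin 3) (Fin 3) F) 0 j = 0 := by
    intro j hj
    rw [← act_single_apply]
    fin_cases j
    · exact absurd rfl hj
    · simp [he1, hW0]
    · simp [he2, hW0]
  rcases sl_le_or_col hM h5 hWM hrowW with hSL | hc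
  · exact hSL
  exfalso
  have h20 := hc 1 (by decide)
  rw [← act_single_apply, he0, hW1] at h20
  exact one_ne_zero (α := F) (by linear_combination h50 - 2 * h20)

/-- A non-monomial element with a unit row. -/
theorem sl_le_of_unit_row (hM : Over M) (h5 : 5 ≤ Fintype.card F) {x : GL (Fin 3) F} (hx : x ∈ M) (hnm : ¬ Mono x)
    {r : Fin 3} (hrow : ∀ j, j ≠ r → (x : Matrix (Fin 3) (Fin 3) F) r j = 0) :
    Cfsg.Geo.specialLinear (Fin 3) F ≤ M := by
  rcases sl_le_or_col hM h5 hx hrow with hSL | hcol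
  · exact hSL
  obtain ⟨a, b, hab, har, hbr, haa, hba⟩ : ∃ a b, a ≠ b ∧ a ≠ r ∧ b ≠ r ∧
      (x : Matrix (Fin 3) (Fin 3) F) a a ≠ 0 ∧ (x : Matrix (Fin 3) (Fin 3) F) b a ≠ 0 := by
    by_contra hc
    push Not at hc
    apply hnm
    apply mono_of_cols
    intro j i k hik
    rcases eq_or_ne j r with rfl | hj
    · rcases eq_or_ne i j with rfl | hi
      · exact Or.inr (hcol k hik.symm)
      · exact Or.inl (hcol i hi)
    rcases eq_or_ne i r with rfl | hi
    · exact Or.inl (hrow j hj)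
    rcases eq_or_ne k r with rfl | hk
    · exact Or.inr (hrow j hj)
    by_contra h
    push Not at h
    rcases eq_or_ne i j with rfl | hij
    · exact h.2 (hc i k hik hi hk h.1)
    · have hkj : k = j := by
        rcases third_cases hik hi hk j with rfl | rfl | rfl
        · exact absurd rfl hij
        · rfl
        · exact absurd rfl hj
      subst hkj
      exact h.1 (hc k i hik.symm hk hi h.2)
  obtain ⟨ρ, hρ⟩ : ∃ ρ, ρ = (x : Matrix (Fin 3) (Fin 3) F) r r := ⟨_, rfl⟩
  have hρ0 : ρ ≠ 0 := by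
    obtain ⟨j, hj⟩ := exists_row_ne_zero x r
    rcases eq_or_ne j r with rfl | h
    · rwa [hρ]
    · exact absurd (hrow j h) hj
  have hir : act x⁻¹ (Pi.single r 1) = ρ⁻¹ • Pi.single r 1 := by
    apply act_injective x
    rw [act_act_inv, map_smul]
    funext k
    rw [Pi.smul_apply, act_single_apply, smul_eq_mul]
    by_cases hk : k = r
    · subst hk; rw [← hρ, inv_mul_cancel₀ hρ0, Pi.single_eq_same]
    · rw [hcol k hk, mul_zero, Pi.single_eq_of_ne hk]
  obtain ⟨v, hv⟩ : ∃ v, v = act x (Pi.single a 1) := ⟨_, rfl⟩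
  obtain ⟨φ, hφ⟩ : ∃ φ : Fin 3 → F, φ = fun k => ((x⁻¹ : GL (Fin 3) F) : Matrix (Fin 3) (Fin 3) F) a k :=
    ⟨_, rfl⟩
  have hφy : ∀ y, φ ⬝ᵥ y = act x⁻¹ y a := fun y => by rw [hφ, act_apply]; rfl
  have hφr : φ r = 0 := by
    rw [hφ]
    simp only
    rw [← act_single_apply, hir, single_apply', if_neg har]
  have hvr : v r = 0 := by rw [hv, act_single_apply]; exact hrow a har
  have hva : v a = (x : Matrix (Fin 3) (Fin 3) F) a a := by rw [hv, act_single_apply]
  have hvb : v b = (x : Matrix (Fin 3) (Fin 3) F) b a := by rw [hv, act_single_apply]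
  have hdot : φ ⬝ᵥ v = 1 := by rw [hφy, hv, act_inv_act, Pi.single_eq_same]
  have hH : Homol M r φ v := by
    refine ⟨hvr, hφr, hdot, fun s hs => ?_⟩
    obtain ⟨t, ht, htx, -⟩ := exists_scale_mem hM har (μ := 1 + s) (fun e => hs (eq_neg_of_add_eq_zero_right e))
    refine ⟨x * t * x⁻¹, M.mul_mem (M.mul_mem hx ht) (M.inv_mem hx), fun y hy => ?_⟩
    have hu : act x⁻¹ y r = 0 := by
      have := act_unit_row hrow (act x⁻¹ y)
      rw [act_act_inv, hy, ← hρ] at this
      exact (mul_eq_zero.1 this.symm).resolve_left hρ0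
    rw [act_mul, act_mul, htx _ hu, map_add, map_smul, act_act_inv, ← hv, smul_dotProduct, hφy, smul_eq_mul,
      add_sub_cancel_left]
  have hμ := exists_unit_ne (F := F) h5
  have hsum : φ a * v a + φ b * v b = 1 := by
    rw [← hdot, dotProduct, sum_three hab har hbr, hφr, zero_mul, add_zero]
  by_cases hφa : φ a = 0
  · exact sl_le_of_hasElem hM h5 (hasElem_of_support hM hμ hH (i := a) (Or.inr ⟨by rwa [hva], hφa⟩))
  by_cases hφb : φ b = 0
  · exact sl_le_of_hasElem hM h5 (hasElem_of_support hM hμ hH (i := b) (Or.inr ⟨by rwa [hvb], hφb⟩))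
  have hA0 : φ a * v a ≠ 0 := mul_ne_zero hφa (by rwa [hva])
  by_cases hA : 2 * (φ a * v a) = 1
  swap
  · refine sl_le_of_hasElem hM h5 (hasElem_of_entry hM h5 hH (i := a) hA0 (fun e => ?_) hA)
    exact mul_ne_zero hφb (by rwa [hvb] : v b ≠ 0) (by linear_combination hsum - e)
  by_cases hq : Fintype.card F = 5
  · have hzero : φ a * (x : Matrix (Fin 3) (Fin 3) F) a b + φ b * (x : Matrix (Fin 3) (Fin 3) F) b b = 0 := by
      have := hφy (act x (Pi.single b 1))
      rw [act_inv_act, Pi.single_eq_of_ne hab, dotProduct, sum_three hab har hbr, hφr, zero_mul, add_zero,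
        act_single_apply, act_single_apply] at this
      exact this
    have hab0 : (x : Matrix (Fin 3) (Fin 3) F) a b ≠ 0 := by
      intro e
      rw [e, mul_zero, zero_add] at hzero
      have hbb := (mul_eq_zero.1 hzero).resolve_left hφb
      have : act x (Pi.single b 1) = act x 0 := by
        funext k
        rw [act_single_apply, map_zero, Pi.zero_apply]
        rcases third_cases hab har hbr k with rfl | rfl | rfl
        · exact e
        · exact hbb
        · exact hrow b hbr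
      simpa using congrFun (act_injective x this) b
    refine sl_le_of_five hM h5 hq hab har hbr hx hrow hcol hab0 hba haa ?_
    rw [hva, hvb] at hsum
    rw [hva] at hA
    apply mul_left_cancel₀ hφb
    linear_combination (x : Matrix (Fin 3) (Fin 3) F) a a * hzero -
      (x : Matrix (Fin 3) (Fin 3) F) a b * hA + (x : Matrix (Fin 3) (Fin 3) F) a b * hsum
  obtain ⟨s, hs0, hs1, hs4, hs2⟩ := exists_avoid (F := F) h5 4 2 (fun e => absurd e hq) (fun e => absurd e hq)
    card_ne_six
  have hs : 1 + s ≠ 0 := fun e => hs1 (eq_neg_of_add_eq_zero_right e)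
  obtain ⟨s', hs'⟩ : ∃ s', s' = -s / (1 + s) := ⟨_, rfl⟩
  have key : s + s' + s * s' = 0 := by rw [hs']; field_simp; ring
  have hN := homol_next hM har hH hs1 key
  obtain ⟨P, hP⟩ : ∃ P, P = (Pi.single a 1 + (s' * v a) • φ : Fin 3 → F) b *
      (Pi.single a 1 + (s * φ a) • v : Fin 3 → F) b := ⟨_, rfl⟩
  have hP4 : 4 * (1 + s) * P = -s ^ 2 := by
    rw [hP]
    simp only [Pi.add_apply, Pi.smul_apply, smul_eq_mul, Pi.single_eq_of_ne hab.symm, zero_add]
    linear_combination (4 * s * (φ a * v a) * (φ b * v b)) * key - s ^ 2 * (2 * (φ b * v b)) * hA -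
      s ^ 2 * (2 * hsum - hA)
  refine sl_le_of_hasElem hM h5 (hasElem_of_entry hM h5 hN (i := b) ?_ ?_ ?_) <;> rw [← hP] <;> intro e
  · exact hs0 (by simpa [e] using hP4)
  · rw [e] at hP4; exact hs4 (by linear_combination hP4)
  · exact hs2 (by linear_combination hP4 - 2 * (1 + s) * e)

/-- A row with two zeros. -/
theorem sl_le_of_row_zeros (hM : Over M) (h5 : 5 ≤ Fintype.card F) {m : GL (Fin 3) F} (hm : m ∈ M)
    (hnm : ¬ Mono m) {r p q : Fin 3} (hpq : p ≠ q) (hp : (m : Matrix (Fin 3) (Fin 3) F) r p = 0)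
    (hq : (m : Matrix (Fin 3) (Fin 3) F) r q = 0) : Cfsg.Geo.specialLinear (Fin 3) F ≤ M := by
  obtain ⟨j, hjp, hjq⟩ : ∃ j : Fin 3, j ≠ p ∧ j ≠ q := by clear hp hq; revert p q; decide
  obtain ⟨n, hn, γ, -, hnr, hnj⟩ := exists_mem_pm_off hM (Equiv.swap r j) r (1 : Fin 3 → F)
    (fun _ _ => one_ne_zero)
  have hnmono : Mono n := fun k => by
    rcases eq_or_ne k r with rfl | hk
    · exact ⟨_, γ, hnr⟩
    · exact ⟨_, _, hnj k hk⟩
  refine sl_le_of_unit_row hM h5 (M.mul_mem hm hn) (fun h => hnm ?_) (r := r) fun k hk => ?_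
  · simpa using h.mul hnmono.inv
  · rw [← act_single_apply, act_mul, hnj k hk, map_smul, Pi.smul_apply, act_single_apply, smul_eq_mul]
    have hne : Equiv.swap r j k ≠ j := fun e => hk ((Equiv.swap r j).injective (by rw [e, Equiv.swap_apply_left]))
    rcases third_cases hpq hjp.symm hjq.symm (Equiv.swap r j k) with h | h | h
    · rw [h, hp, mul_zero]
    · rw [h, hq, mul_zero]
    · exact absurd h hne

/-- A column with two zeros. -/
theorem sl_le_of_col_zeros (hM : Over M) (h5 : 5 ≤ Fintype.card F) {m : GL (Fin 3) F} (hm : m ∈ M)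
    (hnm : ¬ Mono m) {c p q : Fin 3} (hpq : p ≠ q) (hp : (m : Matrix (Fin 3) (Fin 3) F) p c = 0)
    (hq : (m : Matrix (Fin 3) (Fin 3) F) q c = 0) : Cfsg.Geo.specialLinear (Fin 3) F ≤ M := by
  have hent : ∀ i j, ((dual m⁻¹ : GL (Fin 3) F) : Matrix (Fin 3) (Fin 3) F) i j =
      (m : Matrix (Fin 3) (Fin 3) F) j i := fun i j => by rw [coe_dual, inv_inv, Matrix.transpose_apply]
  have hle := sl_le_of_row_zeros (over_comap hM) h5 (m := dual m⁻¹)
    (Subgroup.mem_comap.2 (by rw [dual_dual]; exact M.inv_mem hm))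
    (fun h => hnm (by have h2 := (mono_dual h).inv; rwa [dual_dual, inv_inv] at h2))
    hpq (r := c) (by rw [hent, hp]) (by rw [hent, hq])
  intro g hg
  have hsl : dual g ∈ Cfsg.Geo.specialLinear (Fin 3) F := mem_specialLinear_iff.2 (by
    rw [coe_dual, Matrix.det_transpose, Matrix.coe_units_inv, Matrix.det_nonsing_inv, Ring.inverse_eq_inv',
      mem_specialLinear_iff.1 hg, inv_one])
  have := Subgroup.mem_comap.1 (hle hsl)
  rwa [dual_dual] at this

/-- A row without zeros makes all products of opposite entries a third. -/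
theorem three_prod (hM : Over M) (h5 : 5 ≤ Fintype.card F) (hno : ¬ Cfsg.Geo.specialLinear (Fin 3) F ≤ M)
    {m : GL (Fin 3) F} (hm : m ∈ M) {r : Fin 3} (hrow : ∀ j, (m : Matrix (Fin 3) (Fin 3) F) r j ≠ 0)
    (i j : Fin 3) :
    3 * ((m : Matrix (Fin 3) (Fin 3) F) i j * ((m⁻¹ : GL (Fin 3) F) : Matrix (Fin 3) (Fin 3) F) j i) = 1 := by
  obtain ⟨σ, hsign, h01, h12, h20⟩ : ∃ σ : Equiv.Perm (Fin 3),
      Equiv.Perm.sign σ = 1 ∧ σ 0 = 1 ∧ σ 1 = 2 ∧ σ 2 = 0 := by decide
  obtain ⟨d, hd⟩ : ∃ d : Fin 3 → F, d = fun k =>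
      (m : Matrix (Fin 3) (Fin 3) F) r k / (m : Matrix (Fin 3) (Fin 3) F) r (σ k) := ⟨_, rfl⟩
  have hd0 : ∀ k, d k ≠ 0 := fun k => by rw [hd]; exact div_ne_zero (hrow _) (hrow _)
  have hdprod : d 0 * d 1 * d 2 = 1 := by
    have := hrow 0; have := hrow 1; have := hrow 2
    simp only [hd, h01, h12, h20]; field_simp
  obtain ⟨k, hk, hkc⟩ := exists_mem_pm hM σ d hd0 (by
    rw [hsign, Fin.prod_univ_three, hdprod]; simp)
  have hk3 : ∀ c, act k (act k (act k (Pi.single c 1))) = (Pi.single c 1 : Fin 3 → F) := by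
    have h3c : ∀ c, σ (σ (σ c)) = c ∧ d c * d (σ c) * d (σ (σ c)) = 1 := by
      intro c
      fin_cases c <;> simp [h01, h12, h20] <;> linear_combination hdprod
    intro c
    rw [hkc, map_smul, hkc, map_smul, map_smul, hkc, smul_smul, smul_smul, (h3c c).1, (h3c c).2, one_smul]
  obtain ⟨x, hx⟩ : ∃ x, x = m * k * m⁻¹ := ⟨_, rfl⟩
  have hxM : x ∈ M := hx ▸ M.mul_mem (M.mul_mem hm hk) (M.inv_mem hm)
  have hmk : ∀ c, ((m * k : GL (Fin 3) F) : Matrix (Fin 3) (Fin 3) F) r c = (m : Matrix (Fin 3) (Fin 3) F) r c := by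
    intro c
    rw [← act_single_apply, act_mul, hkc, map_smul, Pi.smul_apply, act_single_apply, hd, smul_eq_mul]
    exact div_mul_cancel₀ _ (hrow _)
  have hxr : ∀ y, act x y r = y r := by
    intro y
    rw [hx, act_mul, act_coord, hmk, hmk, hmk, ← act_coord, act_act_inv]
  have hxrow : ∀ c, c ≠ r → (x : Matrix (Fin 3) (Fin 3) F) r c = 0 := fun c hc => by
    rw [← act_single_apply, hxr, Pi.single_eq_of_ne hc.symm]
  have hxm : Mono x := by
    by_contra h
    exact hno (sl_le_of_unit_row hM h5 hxM h hxrow)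
  obtain ⟨π, c, hc0, hc⟩ := hxm.exists_data
  have hx3 : ∀ y, act x (act x (act x y)) = y := by
    have hkk : ∀ y, act k (act k (act k y)) = y := by
      intro y
      conv_lhs => rw [eq_sum_single y]
      conv_rhs => rw [eq_sum_single y]
      simp only [map_sum, map_smul, hk3]
    intro y
    rw [hx]
    simp only [act_mul, act_inv_act, hkk, act_act_inv]
  have hπr : π r = r := by
    have := hxr (Pi.single r 1)
    rw [hc, single_apply', Pi.single_eq_same] at this
    by_contra h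
    rw [if_neg (Ne.symm h)] at this
    exact zero_ne_one this
  have hπ3 : ∀ l, π (π (π l)) = l := by
    intro l
    have := congrFun (hx3 (Pi.single l 1)) l
    simp only [hc, map_smul, smul_smul, single_apply', Pi.single_eq_same] at this
    by_contra h
    rw [if_neg (Ne.symm h)] at this
    exact zero_ne_one this
  have hπ : π = 1 := by
    have key : ∀ (π : Equiv.Perm (Fin 3)) (r : Fin 3), π r = r → (∀ l, π (π (π l)) = l) → π = 1 := by decide
    exact key π r hπr hπ3
  subst hπ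
  have hxv : ∀ y i', act x y i' = c i' * y i' := fun y i' => act_mono_coord hc y i'
  have hstep : ∀ l, (m : Matrix (Fin 3) (Fin 3) F) i (σ l) *
      ((m⁻¹ : GL (Fin 3) F) : Matrix (Fin 3) (Fin 3) F) (σ l) i =
      (m : Matrix (Fin 3) (Fin 3) F) i l * ((m⁻¹ : GL (Fin 3) F) : Matrix (Fin 3) (Fin 3) F) l i := by
    intro l
    have e1 : d l * (m : Matrix (Fin 3) (Fin 3) F) i (σ l) = c i * (m : Matrix (Fin 3) (Fin 3) F) i l := by
      have h1 : act x (act m (Pi.single l 1)) i = act m (act k (Pi.single l 1)) i := by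
        rw [hx, act_mul, act_mul, act_inv_act]
      rw [hxv, hkc, map_smul, Pi.smul_apply, act_single_apply, act_single_apply, smul_eq_mul] at h1
      exact h1.symm
    have e2 : d l * ((m⁻¹ : GL (Fin 3) F) : Matrix (Fin 3) (Fin 3) F) l i =
        c i * ((m⁻¹ : GL (Fin 3) F) : Matrix (Fin 3) (Fin 3) F) (σ l) i := by
      have h1 : act m⁻¹ (act x (Pi.single i 1)) (σ l) = act k (act m⁻¹ (Pi.single i 1)) (σ l) := by
        rw [hx, act_mul, act_mul, act_inv_act]
      rw [hc, map_smul, Pi.smul_apply, act_mono_coord hkc, act_single_apply, act_single_apply, smul_eq_mul] at h1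
      simpa using h1.symm
    apply mul_left_cancel₀ (mul_ne_zero (hd0 l) (hc0 i))
    linear_combination (c i * ((m⁻¹ : GL (Fin 3) F) : Matrix (Fin 3) (Fin 3) F) (σ l) i) * e1 -
      (c i * (m : Matrix (Fin 3) (Fin 3) F) i l) * e2
  have hsum : act m (act m⁻¹ (Pi.single i 1)) i = 1 := by rw [act_act_inv, Pi.single_eq_same]
  rw [act_coord, act_single_apply, act_single_apply, act_single_apply] at hsum
  have a0 := hstep 0
  have a1 := hstep 1
  rw [h01] at a0
  rw [h12] at a1
  fin_cases j <;> simp only [Fin.zero_eta, Fin.mk_one, Fin.reduceFinMk]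
  · linear_combination hsum - 2 * a0 - a1
  · linear_combination hsum + a0 - a1
  · linear_combination hsum + a0 + 2 * a1

/-- A non-monomial element has no zero entries. -/
theorem false_of_zero (hM : Over M) (h5 : 5 ≤ Fintype.card F) (hno : ¬ Cfsg.Geo.specialLinear (Fin 3) F ≤ M)
    {m : GL (Fin 3) F} (hm : m ∈ M) (hnm : ¬ Mono m) {r a : Fin 3}
    (h0 : (m : Matrix (Fin 3) (Fin 3) F) r a = 0) : False := by
  have hrows : ∀ i, ∃ c, (m : Matrix (Fin 3) (Fin 3) F) i c = 0 := by
    intro i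
    by_contra h
    push Not at h
    have := three_prod hM h5 hno hm h r a
    rw [h0, zero_mul, mul_zero] at this
    exact zero_ne_one this
  choose z hz using hrows
  have hz1 : ∀ i c, (m : Matrix (Fin 3) (Fin 3) F) i c = 0 → c = z i := fun i c hc => by
    by_contra h
    exact hno (sl_le_of_row_zeros hM h5 hm hnm h hc (hz i))
  have hzinj : Function.Injective z := fun i i' e => by
    by_contra h
    exact hno (sl_le_of_col_zeros hM h5 hm hnm h (hz i) (by rw [e]; exact hz i'))
  have hzr : z r = a := (hz1 r a h0).symm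
  obtain ⟨u, hu⟩ : ∃ u, u = act m⁻¹ (Pi.single r 1) := ⟨_, rfl⟩
  have hua : u a ≠ 0 := by
    intro hua
    have hu0 : u = 0 := by
      funext k
      show u k = 0
      rcases eq_or_ne k a with rfl | hka
      · exact hua
      obtain ⟨i₀, hi₀⟩ := (Finite.injective_iff_surjective.1 hzinj) k
      obtain ⟨i, hir, hii⟩ : ∃ i : Fin 3, i ≠ r ∧ i ≠ i₀ :=
        (by decide : ∀ r i₀ : Fin 3, ∃ i : Fin 3, i ≠ r ∧ i ≠ i₀) r i₀
      have hzi : z i ≠ k := fun e => hii (hzinj (e.trans hi₀.symm))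
      have hza : z i ≠ a := fun e => hir (hzinj (e.trans hzr.symm))
      have hmk : (m : Matrix (Fin 3) (Fin 3) F) i k ≠ 0 := fun e => hzi (hz1 i k e).symm
      have h1 : act m u i = 0 := by rw [hu, act_act_inv, Pi.single_eq_of_ne hir]
      rw [act_apply, Matrix.mulVec, dotProduct, sum_three hka hzi.symm hza.symm, hua, hz i, mul_zero, zero_mul,
        add_zero, add_zero] at h1
      exact (mul_eq_zero.1 h1).resolve_left hmk
    have := congrArg (act m) hu0
    rw [hu, act_act_inv, map_zero] at this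
    simpa using congrFun this r
  obtain ⟨k, hkr⟩ : ∃ k : Fin 3, k ≠ r := ⟨r + 1, (by decide : ∀ r : Fin 3, r + 1 ≠ r) r⟩
  have hka : (m : Matrix (Fin 3) (Fin 3) F) k a ≠ 0 := fun e => hkr (hzinj ((hz1 k a e).symm.trans hzr.symm))
  obtain ⟨l, hl0, -, hl3⟩ := exists_three_ne h5
  obtain ⟨t, ht, htx, -⟩ := exists_diag_mem hM (Function.update (fun _ : Fin 3 => l) a (l⁻¹ ^ 2))
    (by rw [prod_update_const]; field_simp)
  have htv : ∀ y, act t y = l • y + ((l⁻¹ ^ 2 - l) * y a) • (Pi.single a 1 : Fin 3 → F) := by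
    intro y; funext p
    rw [htx]
    by_cases hp : p = a
    · subst hp; simp; ring
    · simp [hp]
  have hc : l⁻¹ ^ 2 - l ≠ 0 := by
    intro e
    apply hl3
    field_simp at e
    linear_combination -e
  have hxe : ∀ j p, ((m * t * m⁻¹ : GL (Fin 3) F) : Matrix (Fin 3) (Fin 3) F) p j =
      l * (Pi.single j 1 : Fin 3 → F) p +
        (l⁻¹ ^ 2 - l) * act m⁻¹ (Pi.single j 1) a * (m : Matrix (Fin 3) (Fin 3) F) p a := by
    intro j p
    rw [← act_single_apply, act_mul, act_mul, htv, map_add, map_smul, map_smul, act_act_inv]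
    simp only [Pi.add_apply, Pi.smul_apply, act_single_apply, smul_eq_mul]
  refine hno (sl_le_of_unit_row hM h5 (M.mul_mem (M.mul_mem hm ht) (M.inv_mem hm)) ?_ (r := r) ?_)
  · refine not_mono_of_col hkr.symm (j := r) ?_ ?_
    · rw [hxe, h0, mul_zero, add_zero, Pi.single_eq_same, mul_one]; exact hl0
    · rw [hxe, Pi.single_eq_of_ne hkr, mul_zero, zero_add, ← hu]
      exact mul_ne_zero (mul_ne_zero hc hua) hka
  · intro j hj
    rw [hxe, h0, mul_zero, add_zero, Pi.single_eq_of_ne hj.symm, mul_zero]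

/-- The monomial group with any further element generates the special linear group. -/
theorem sl_le_of_not_mono (hM : Over M) (h5 : 5 ≤ Fintype.card F) {m : GL (Fin 3) F} (hm : m ∈ M)
    (hnm : ¬ Mono m) : Cfsg.Geo.specialLinear (Fin 3) F ≤ M := by
  by_contra hno
  by_cases hz : ∃ r a, (m : Matrix (Fin 3) (Fin 3) F) r a = 0
  · obtain ⟨r, a, h0⟩ := hz
    exact false_of_zero hM h5 hno hm hnm h0
  push Not at hz
  have hT := three_prod hM h5 hno hm (hz 0)
  have h3 : (3 : F) ≠ 0 := fun e => by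
    have := hT 0 0
    rw [e, zero_mul] at this
    exact zero_ne_one this
  obtain ⟨l, hl0, hl3, hlS⟩ : ∃ l : F, l ≠ 0 ∧ l ^ 3 ≠ 1 ∧ (l + l⁻¹ + 1) ^ 2 ≠ 3 := by
    by_cases h2 : (2 : F) = 0
    · obtain ⟨l, hl0, hl2, hl3⟩ := exists_three_ne h5
      refine ⟨l, hl0, hl3, fun e => hl2 ?_⟩
      field_simp at e
      have : (l ^ 2 - 1) ^ 2 = 0 := by linear_combination e + (-l ^ 3 - l ^ 2 - l) * h2
      exact sub_eq_zero.1 (pow_eq_zero_iff (by norm_num) |>.1 this)
    · refine ⟨-1, by simp, fun e => h2 ?_, fun e => h2 ?_⟩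
      · linear_combination -e
      · simp at e; linear_combination -e
  have hS : l + l⁻¹ + 1 ≠ 0 := by
    intro e
    apply hl3
    field_simp at e
    linear_combination (l - 1) * e
  obtain ⟨t, ht, htx, htix⟩ := exists_diag_mem hM ![l, l⁻¹, 1] (by simp [Fin.prod_univ_three, hl0])
  obtain ⟨y, hy⟩ : ∃ y, y = m * t * m⁻¹ := ⟨_, rfl⟩
  have hyM : y ∈ M := hy ▸ M.mul_mem (M.mul_mem hm ht) (M.inv_mem hm)
  have hdiag : ∀ i, 3 * (y : Matrix (Fin 3) (Fin 3) F) i i = l + l⁻¹ + 1 := by
    intro i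
    rw [hy, ← act_single_apply, act_mul, act_mul, act_coord, htx, htx, htx, act_single_apply, act_single_apply,
      act_single_apply]
    simp only [Matrix.cons_val_zero, Matrix.cons_val_one, Matrix.cons_val]
    linear_combination l * hT i 0 + l⁻¹ * hT i 1 + hT i 2
  have hdiag' : 3 * ((y⁻¹ : GL (Fin 3) F) : Matrix (Fin 3) (Fin 3) F) 0 0 = l + l⁻¹ + 1 := by
    rw [hy, show (m * t * m⁻¹)⁻¹ = m * t⁻¹ * m⁻¹ by group, ← act_single_apply, act_mul, act_mul, act_coord,
      htix, htix, htix, act_single_apply, act_single_apply, act_single_apply]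
    simp only [Matrix.cons_val_zero, Matrix.cons_val_one, Matrix.cons_val, inv_inv, inv_one]
    linear_combination l⁻¹ * hT 0 0 + l * hT 0 1 + hT 0 2
  have hynm : ¬ Mono y := by
    intro hym
    obtain ⟨π, c, -, hc⟩ := hym.exists_data
    have hπ : π = 1 := by
      refine Equiv.ext fun i => ?_
      by_contra h
      have h1 := hdiag i
      rw [← act_single_apply, hc, single_apply', if_neg (fun e => h e.symm), mul_zero] at h1
      exact hS h1.symm
    subst hπ
    have key : ∀ i j, c i * (m : Matrix (Fin 3) (Fin 3) F) i j =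
        (![l, l⁻¹, 1] : Fin 3 → F) j * (m : Matrix (Fin 3) (Fin 3) F) i j := by
      intro i j
      have h1 : act y (act m (Pi.single j 1)) i = act m (act t (Pi.single j 1)) i := by
        rw [hy, act_mul, act_mul, act_inv_act]
      have h2 : act t (Pi.single j 1) = (![l, l⁻¹, 1] : Fin 3 → F) j • Pi.single j 1 := by
        funext p
        rw [htx, single_apply']
        by_cases hp : p = j
        · subst hp; simp
        · simp [hp]
      rw [h2, map_smul, Pi.smul_apply, act_single_apply, smul_eq_mul] at h1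
      have h4 := act_mono_coord hc (act m (Pi.single j 1)) i
      rw [act_single_apply] at h4
      exact (h4.symm.trans h1)
    have e0 := mul_right_cancel₀ (hz 0 0) (key 0 0)
    have e2 := mul_right_cancel₀ (hz 0 2) (key 0 2)
    simp at e0 e2
    exact hl3 (by rw [← e0, e2, one_pow])
  by_cases hyz : ∃ r a, (y : Matrix (Fin 3) (Fin 3) F) r a = 0
  · obtain ⟨r, a, h0⟩ := hyz
    exact false_of_zero hM h5 hno hyM hynm h0
  push Not at hyz
  have := three_prod hM h5 hno hyM (hyz 0) 0 0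
  apply hlS
  linear_combination -(l + l⁻¹ + 1) * hdiag 0 - 3 * (y : Matrix (Fin 3) (Fin 3) F) 0 0 * hdiag' + 3 * this

end Cfsg.Agent.MaxCl.SLThree.MonoMax

namespace Cfsg.Agent.MaxCl.SLThree

open Matrix Cfsg.Agent.MaxCl Cfsg.Agent.MaxCl.Monom
open scoped MatrixGroups

/-- The stabiliser of three independent lines is maximal in `SL 3`. -/
theorem mono_maximal {F : Type*} [Field F] [Fintype F] :
    5 ≤ Fintype.card F → ∀ D : Fin 3 → Submodule F (Fin 3 → F), Cfsg.Geo.IsMDecomposition 1 D →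
      Cfsg.Geo.IsMaximalIn (Cfsg.Geo.specialLinear (Fin 3) F)
        (Cfsg.Geo.decompositionStabilizer D ⊓ Cfsg.Geo.specialLinear (Fin 3) F) := by
  intro h5 D hD
  have hw : ∀ i, ∃ w : Fin 3 → F, w ≠ 0 ∧ D i = F ∙ w := by
    intro i
    obtain ⟨w, hw, hw0⟩ := Submodule.exists_mem_ne_zero_of_ne_bot (p := D i) (fun e => by
      have := hD.finrank_eq i
      rw [e, finrank_bot] at this
      exact zero_ne_one this)
    exact ⟨w, hw0, (Submodule.eq_of_le_of_finrank_eq ((Submodule.span_singleton_le_iff_mem _ _).2 hw)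
      (by rw [finrank_span_singleton hw0, hD.finrank_eq])).symm⟩
  choose w hw0 hwD using hw
  have hli : LinearIndependent F w := iSupIndep.linearIndependent D hD.indep
    (fun i => by rw [hwD i]; exact Submodule.mem_span_singleton_self _) hw0
  obtain ⟨P, hP⟩ := exists_gl_of_injective (Fintype.linearCombination F w)
    hli.fintypeLinearCombination_injective
  have hPe : ∀ i, act P (Pi.single i 1) = w i := fun i => by
    rw [hP, Fintype.linearCombination_apply_single, one_smul]
  have hstab : ∀ g : GL (Fin 3) F, P * g * P⁻¹ ∈ Cfsg.Geo.decompositionStabilizer D ↔ Mono g := by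
    intro g
    have hgw : ∀ i, act (P * g * P⁻¹) (w i) = act P (act g (Pi.single i 1)) := fun i => by
      rw [act_mul, act_mul, ← hPe i, act_inv_act]
    constructor
    · rintro ⟨σ, hσ⟩ i
      have h1 : act (P * g * P⁻¹) (w i) ∈ D (σ i) :=
        hσ i ▸ Submodule.mem_map_of_mem (by rw [hwD i]; exact Submodule.mem_span_singleton_self _)
      rw [hwD (σ i), Submodule.mem_span_singleton] at h1
      obtain ⟨c, hc⟩ := h1
      refine ⟨σ i, c, act_injective P ?_⟩
      rw [map_smul, hPe, hc, hgw]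
    · intro hg
      obtain ⟨π, d, hd0, hd⟩ := hg.exists_data
      refine ⟨π, fun i => ?_⟩
      rw [hwD i, hwD (π i), Submodule.map_span, Set.image_singleton, toLin'_eq_act, hgw, hd, map_smul, hPe]
      exact Submodule.span_singleton_smul_eq (IsUnit.mk0 _ (hd0 i)) _
  have hsl : ∀ g : GL (Fin 3) F, P * g * P⁻¹ ∈ Cfsg.Geo.specialLinear (Fin 3) F ↔
      g ∈ Cfsg.Geo.specialLinear (Fin 3) F := fun g => by simp [Cfsg.Geo.specialLinear, MonoidHom.mem_ker]
  refine ⟨lt_of_le_of_ne inf_le_right fun heq => ?_, fun M hM1 hM2 => ?_⟩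
  · obtain ⟨φ, hφ⟩ : ∃ φ : (Fin 3 → F) →ₗ[F] F, φ = LinearMap.proj 1 := ⟨_, rfl⟩
    have hφa : φ (Pi.single 0 1) = 0 := by simp [hφ]
    have h := (hstab _).1 ((inf_eq_right.1 heq) ((hsl (tv φ (Pi.single 0 1))).2 (mem_specialLinear_iff.2 (by
      rw [det_eq_of_fix_hyperplane (act_tv hφa), hφa, add_zero]))))
    refine MonoMax.not_mono_of_col (i := 0) (k := 1) (j := 1) (by decide) ?_ ?_ h <;>
      rw [← act_single_apply, act_tv hφa, hφ] <;> simp
  by_cases hsub : M ≤ Cfsg.Geo.decompositionStabilizer D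
  · exact Or.inl (le_antisymm (le_inf hsub hM2) hM1)
  right
  obtain ⟨g, hgM, hg⟩ := SetLike.not_le_iff_exists.1 hsub
  obtain ⟨M', hM'⟩ : ∃ M', M' = M.comap (MulAut.conj P).toMonoidHom := ⟨_, rfl⟩
  have hmemM' : ∀ x, x ∈ M' ↔ P * x * P⁻¹ ∈ M := fun x => by
    rw [hM', Subgroup.mem_comap]; rfl
  have hover : Over M' := ⟨fun x hx => (hsl x).1 (hM2 ((hmemM' x).1 hx)),
    fun x hx hx' => (hmemM' x).2 (hM1 ⟨(hstab x).2 hx, (hsl x).2 hx'⟩)⟩
  have hgP : P * (P⁻¹ * g * P) * P⁻¹ = g := by group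
  have hle := MonoMax.sl_le_of_not_mono hover h5 ((hmemM' (P⁻¹ * g * P)).2 (by rw [hgP]; exact hgM))
    (fun h => hg (hgP ▸ (hstab _).2 h))
  refine le_antisymm hM2 fun x hx => ?_
  have := (hmemM' _).1 (hle ((hsl (P⁻¹ * x * P)).1 (by rwa [show P * (P⁻¹ * x * P) * P⁻¹ = x by group])))
  rwa [show P * (P⁻¹ * x * P) * P⁻¹ = x by group] at this

end Cfsg.Agent.MaxCl.SLThree
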