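/-
The similarity group of a quadratic form is maximal in the special linear group of degree three, odd characteristic.

An element outside takes a singular `a` to a non-singular vector, whose stabiliser in the isometries moves the fixed
line of the Siegel group of `a` modulo `a`; so minus one modulo `a` is induced, and its commutator with a Siegel
element is a transvection with centre `a`. Over three scalars the image may be taken with an anisotropic complement.
-/
import Cfsg.Agent.Lib.MaxCl.SLThree.Elation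
import Cfsg.Agent.Lib.MaxCl.SLFour.Orth

set_option autoImplicit false
set_option linter.unusedSectionVars false

namespace Cfsg.Agent.MaxCl.SLThree.Conic

open scoped MatrixGroups Matrix
open Module (finrank)
open Cfsg.Agent.MaxCl.Orth

variable {F : Type*} [Field F] [Fintype F] {Q : QuadraticForm F (Fin 3 → F)}

set_option quotPrecheck false in
local notation "B" => QuadraticMap.polar (⇑Q)

/-- A hyperbolic pair and a vector orthogonal to both. -/
structure Frame (Q : QuadraticForm F (Fin 3 → F)) (a f z : Fin 3 → F) : Prop where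
  qa : Q a = 0
  qf : Q f = 0
  af : QuadraticMap.polar (⇑Q) a f = 1
  az : QuadraticMap.polar (⇑Q) a z = 0
  fz : QuadraticMap.polar (⇑Q) f z = 0
  qz : Q z ≠ 0
  dec : ∀ x, x = QuadraticMap.polar (⇑Q) f x • a + QuadraticMap.polar (⇑Q) a x • f +
    (QuadraticMap.polar (⇑Q) z x / (2 * Q z)) • z

variable (hQ : (QuadraticMap.polarBilin Q).Nondegenerate) (h2 : (2 : F) ≠ 0)
include hQ h2

theorem exists_frame {a : Fin 3 → F} (ha : Q a = 0) (ha0 : a ≠ 0) : ∃ f z, Frame Q a f z := by
  obtain ⟨y, hy⟩ := exists_B_ne_zero hQ ha0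
  obtain ⟨f, -, hf, haf⟩ := exists_partner Q (W := ⊤) ha trivial trivial hy
  obtain ⟨z, hz, hz0⟩ : ∃ z ∈ Cfsg.Agent.MaxCl.Orth.perp Q (Submodule.span F (Set.range ![a, f])), z ≠ 0 := by
    refine Submodule.exists_mem_ne_zero_of_ne_bot fun h => ?_
    have h1 := Cfsg.Agent.MaxCl.Orth.SLFour.finrank_perp_pair hQ a f
    rw [h, finrank_bot, Fintype.card_fin] at h1
    omega
  rw [mem_perp_span] at hz
  have haz : B a z = 0 := hz a ⟨0, rfl⟩
  have hfz : B f z = 0 := hz f ⟨1, rfl⟩
  have hind : ∀ α β γ : F, α • a + β • f + γ • z = 0 → α = 0 ∧ β = 0 ∧ γ = 0 := by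
    intro α β γ h
    have h1 := congrArg (B a) h
    have h3 := congrArg (B f) h
    rw [B_add_right Q, B_add_right Q, B_smul_right Q, B_smul_right Q, B_smul_right Q, B_self_of_singular Q ha, haf,
      haz, B_zero_right Q] at h1
    rw [B_add_right Q, B_add_right Q, B_smul_right Q, B_smul_right Q, B_smul_right Q, B_self_of_singular Q hf,
      B_comm Q f a, haf, hfz, B_zero_right Q] at h3
    have hβ : β = 0 := by linear_combination h1
    have hα : α = 0 := by linear_combination h3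
    refine ⟨hα, hβ, ?_⟩
    rw [hα, hβ, zero_smul, zero_smul, zero_add, zero_add, smul_eq_zero] at h
    exact h.resolve_right hz0
  have hspan : ∀ x, ∃ α β γ : F, x = α • a + β • f + γ • z := by
    intro x
    have hli : LinearIndependent F ![a, f, z] := by
      rw [Fintype.linearIndependent_iff]
      intro g hg
      simp only [Fin.sum_univ_three, Matrix.cons_val_zero, Matrix.cons_val_one, Matrix.cons_val_two,
        Matrix.tail_cons, Matrix.head_cons] at hg
      obtain ⟨h1, h3, h5⟩ := hind _ _ _ hg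
      intro i
      fin_cases i <;> assumption
    have hx : x ∈ Submodule.span F (Set.range ![a, f, z]) := by
      rw [hli.span_eq_top_of_card_eq_finrank (by simp [Module.finrank_pi])]; trivial
    obtain ⟨g, hg⟩ := (Submodule.mem_span_range_iff_exists_fun F).1 hx
    simp only [Fin.sum_univ_three, Matrix.cons_val_zero, Matrix.cons_val_one, Matrix.cons_val_two,
      Matrix.tail_cons, Matrix.head_cons] at hg
    exact ⟨_, _, _, hg.symm⟩
  have hqz : Q z ≠ 0 := by
    intro h0
    obtain ⟨w, hw⟩ := exists_B_ne_zero hQ hz0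
    obtain ⟨α, β, γ, rfl⟩ := hspan w
    rw [B_add_right Q, B_add_right Q, B_smul_right Q, B_smul_right Q, B_smul_right Q, B_comm Q z a, haz,
      B_comm Q z f, hfz, B_self_of_singular Q h0] at hw
    simp at hw
  refine ⟨f, z, ha, hf, haf, haz, hfz, hqz, fun x => ?_⟩
  obtain ⟨α, β, γ, rfl⟩ := hspan x
  simp only [B_add_right Q, B_smul_right Q, B_comm Q z a, B_comm Q z f, B_comm Q f a, haz, hfz, haf,
    B_self_of_singular Q ha, B_self_of_singular Q hf, B_self Q z]
  match_scalars <;> field_simp <;> ring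

/-- An element preserving the conic is a similarity. -/
theorem similarity_of_cone (g : GL (Fin 3) F) (hg : ∀ a, Q a = 0 → Q (act g a) = 0) :
    g ∈ Cfsg.Geo.quadSimilarityGroup ⇑Q := by
  obtain ⟨a, -, ha0, ha⟩ := exists_singular Q (D := (⊤ : Submodule F (Fin 3 → F))) (by
    rw [finrank_top, Module.finrank_pi, Fintype.card_fin])
  obtain ⟨f, z, hF⟩ := exists_frame hQ h2 ha ha0
  have hrev : ∀ x, Q (act g x) = 0 → Q x = 0 := fun x hx => by
    obtain ⟨⟨y, hy⟩, e⟩ := (Finite.injective_iff_surjective (α := {y : Fin 3 → F // Q y = 0})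
      (f := fun y => ⟨act g y.1, hg _ y.2⟩)).1
      (fun y y' h => Subtype.ext (act_injective _ (congrArg Subtype.val h))) ⟨act g x, hx⟩
    rwa [← act_injective g (congrArg Subtype.val e)]
  have hga := hg a hF.qa
  have hgf := hg f hF.qf
  obtain ⟨c, hc⟩ : ∃ c, c = B (act g a) (act g f) := ⟨_, rfl⟩
  obtain ⟨r, hr⟩ : ∃ r, r = B (act g a) (act g z) := ⟨_, rfl⟩
  obtain ⟨s, hs⟩ : ∃ s, s = B (act g f) (act g z) := ⟨_, rfl⟩
  obtain ⟨d, hd⟩ : ∃ d, d = Q z := ⟨_, rfl⟩
  have hexp : ∀ α β γ : F, Q (act g (α • a + β • f + γ • z)) =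
      γ * γ * Q (act g z) + α * β * c + α * γ * r + β * γ * s := fun α β γ => by
    simp only [map_add, map_smul, Q_add Q, Q_smul Q, B_add_left Q, B_smul_left Q, B_smul_right Q, hga, hgf, ← hc,
      ← hr, ← hs]
    ring
  have hexp0 : ∀ α β γ : F, Q (α • a + β • f + γ • z) = α * β + γ * γ * d := fun α β γ => by
    simp only [Q_add Q, Q_smul Q, B_add_left Q, B_smul_left Q, B_smul_right Q, hF.qa, hF.qf, hF.af, hF.az, hF.fz,
      ← hd]
    ring
  have hgz : Q (act g z) ≠ 0 := fun h => hF.qz (hrev z h)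
  have hone : Q (act g z) - d * c + r - d * s = 0 := by
    have h := hexp 1 (-d) 1
    rw [hg _ (by rw [hexp0]; ring)] at h
    linear_combination -h
  have hr0 : r = 0 := by
    by_contra h0
    have h := hexp 1 0 (-(r / Q (act g z)))
    have h' := hrev _ (h.trans (by field_simp; ring))
    rw [hexp0] at h'
    exact hF.qz (by
      have hne : -(r / Q (act g z)) ≠ 0 := neg_ne_zero.2 (div_ne_zero h0 hgz)
      rw [← hd]
      refine (mul_eq_zero.1 (show -(r / Q (act g z)) * (-(r / Q (act g z))) * d = 0 by linear_combination h')).resolve_left ?_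
      exact mul_ne_zero hne hne)
  have hs0 : s = 0 := by
    by_contra h0
    have h := hexp 0 1 (-(s / Q (act g z)))
    have h' := hrev _ (h.trans (by field_simp; ring))
    rw [hexp0] at h'
    exact hF.qz (by
      have hne : -(s / Q (act g z)) ≠ 0 := neg_ne_zero.2 (div_ne_zero h0 hgz)
      rw [← hd]
      refine (mul_eq_zero.1 (show -(s / Q (act g z)) * (-(s / Q (act g z))) * d = 0 by linear_combination h')).resolve_left ?_
      exact mul_ne_zero hne hne)
  have hz : Q (act g z) = d * c := by linear_combination hone - hr0 + d * hs0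
  have hc0 : c ≠ 0 := fun h => hgz (by rw [hz, h, mul_zero])
  refine ⟨Units.mk0 c hc0, fun x => ?_⟩
  rw [← act_apply, hF.dec x, hexp, hexp0, hz, hr0, hs0, Units.val_mk0]
  ring

/-- Minus the reflection in an anisotropic vector. -/
theorem exists_rot {x : Fin 3 → F} (hx : Q x ≠ 0) : ∃ h : GL (Fin 3) F, h ∈ isometryGroup F Q ∧
    h ∈ Cfsg.Geo.specialLinear (Fin 3) F ∧ ∀ y, act h y = -y + (B x y / Q x) • x := by
  classical
  obtain ⟨L, hL⟩ : ∃ L : (Fin 3 → F) →ₗ[F] (Fin 3 → F),
      L = -LinearMap.id + ((Q x)⁻¹ • QuadraticMap.polarBilin Q x).smulRight x := ⟨_, rfl⟩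
  have hLy : ∀ y, L y = -y + (B x y / Q x) • x := fun y => by
    rw [hL]
    simp [div_eq_inv_mul]
  have hxx : B x x = 2 * Q x := B_self Q x
  have hLL : L ∘ₗ L = LinearMap.id := LinearMap.ext fun y => by
    rw [LinearMap.comp_apply, hLy, hLy, B_add_right Q, B_neg_right Q, B_smul_right Q, hxx, LinearMap.id_apply]
    match_scalars <;> field_simp <;> ring
  obtain ⟨h, hh⟩ : ∃ h : GL (Fin 3) F, ∀ y, act h y = L y :=
    ⟨⟨LinearMap.toMatrix' L, LinearMap.toMatrix' L, by rw [← LinearMap.toMatrix'_comp, hLL, LinearMap.toMatrix'_id],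
      by rw [← LinearMap.toMatrix'_comp, hLL, LinearMap.toMatrix'_id]⟩, fun y => by simp [act_apply]⟩
  refine ⟨h, ?_, ?_, fun y => by rw [hh, hLy]⟩
  · rw [mem_iso]
    intro y
    rw [hh, hLy, Q_add Q, Q_neg Q, Q_smul Q, B_neg_left Q, B_smul_right Q, B_comm Q y x]
    field_simp
    ring
  · refine MonoidHom.mem_ker.2 (Units.ext ?_)
    obtain ⟨m, hm⟩ : ∃ m : GL (Fin 3) F, (m : Matrix (Fin 3) (Fin 3) F) = -(h : Matrix (Fin 3) (Fin 3) F) :=
      ⟨-h, Units.val_neg h⟩
    have hfix : ∀ y, act m y = y + (-((Q x)⁻¹ • QuadraticMap.polarBilin Q x)) y • x := fun y => by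
      rw [act_apply, hm, Matrix.neg_mulVec, ← act_apply, hh, hLy]
      simp [div_eq_inv_mul]
      module
    have hdet := det_eq_of_fix_hyperplane hfix
    rw [hm, Matrix.det_neg, Fintype.card_fin] at hdet
    rw [Matrix.GeneralLinearGroup.val_det_apply, Units.val_one]
    simp only [LinearMap.neg_apply, LinearMap.smul_apply, QuadraticMap.polarBilin_apply_apply, hxx, smul_eq_mul] at hdet
    have e : (Q x)⁻¹ * (2 * Q x) = 2 := by field_simp
    rw [e] at hdet
    linear_combination -hdet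

omit hQ h2

/-- The non-singular complement of a vector has no singular vector. -/
def Internal (Q : QuadraticForm F (Fin 3 → F)) (A : Fin 3 → F) : Prop :=
  Q A ≠ 0 ∧ ∀ y, QuadraticMap.polar (⇑Q) A y = 0 → Q y = 0 → y = 0

include hQ h2

variable {M : Subgroup (GL (Fin 3) F)} (hM : ∀ h ∈ isometryGroup F Q, h ∈ Cfsg.Geo.specialLinear (Fin 3) F → h ∈ M)
include hM

/-- An element fixing `a` up to a scalar and moving its tangent. -/
theorem exists_move {a f z : Fin 3 → F} (hF : Frame Q a f z) {g : GL (Fin 3) F} (hg : g ∈ M)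
    (hA : Q (act g a) ≠ 0) (hq : 4 ≤ Fintype.card F ∨ Internal Q (act g a)) :
    ∃ r ∈ M, ∃ l : F, act r a = l • a ∧ B a (act r z) ≠ 0 := by
  obtain ⟨A, hAdef⟩ : ∃ A, A = act g a := ⟨_, rfl⟩
  obtain ⟨W, hWdef⟩ : ∃ W, W = act g z := ⟨_, rfl⟩
  rw [← hAdef] at hA hq
  -- the pole of the image of the tangent
  have hne : ((QuadraticMap.polarBilin Q a).comp (act g⁻¹)) ≠ 0 := fun h => by
    have h1 := LinearMap.congr_fun h (act g f)
    simp [act_inv_act, hF.af] at h1
  obtain ⟨c, hc⟩ : ∃ c, ∀ y, B c y = B a (act g⁻¹ y) := by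
    haveI : FiniteDimensional F (Fin 3 → F) := inferInstance
    refine ⟨(LinearMap.BilinForm.toDual _ hQ).symm ((QuadraticMap.polarBilin Q a).comp (act g⁻¹)), fun y => ?_⟩
    exact LinearMap.BilinForm.apply_toDual_symm_apply (hB := hQ) _ y
  have hc0 : c ≠ 0 := fun h => hne (LinearMap.ext fun y => by simp [← hc, h, B_zero_left Q])
  have hcA : B c A = 0 := by rw [hc, hAdef, act_inv_act, B_self_of_singular Q hF.qa]
  have hcW : B c W = 0 := by rw [hc, hWdef, act_inv_act, hF.az]
  have hind : ∀ α γ : F, α • A + γ • W = 0 → α = 0 ∧ γ = 0 := by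
    intro α γ h
    rw [hAdef, hWdef, ← map_smul, ← map_smul, ← map_add] at h
    have h' := act_injective g (h.trans (map_zero _).symm)
    have h1 := congrArg (B f) h'
    have h3 := congrArg (B z) h'
    rw [B_add_right Q, B_smul_right Q, B_smul_right Q, B_comm Q f a, hF.af, hF.fz, B_zero_right Q] at h1
    rw [B_add_right Q, B_smul_right Q, B_smul_right Q, B_comm Q z a, hF.az, B_self Q, B_zero_right Q] at h3
    refine ⟨by linear_combination h1, ?_⟩
    exact (mul_eq_zero.1 (show γ * (2 * Q z) = 0 by linear_combination h3)).resolve_right (mul_ne_zero h2 hF.qz)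
  have hspanL : ∀ y, B c y = 0 → ∃ α γ : F, y = α • A + γ • W := by
    intro y hy
    rw [hc] at hy
    refine ⟨B f (act g⁻¹ y), B z (act g⁻¹ y) / (2 * Q z), ?_⟩
    conv_lhs => rw [← act_act_inv g y, hF.dec (act g⁻¹ y), hy]
    rw [hAdef, hWdef, map_add, map_add, map_smul, map_smul, map_smul, zero_smul, add_zero]
  have hAA : B A A ≠ 0 := by rw [B_self Q]; exact mul_ne_zero h2 hA
  obtain ⟨x, hxA, hxq, hxc, hxW⟩ : ∃ x, B A x = 0 ∧ Q x ≠ 0 ∧ B c x ≠ 0 ∧ B x W ≠ 0 := by
    rcases eq_or_ne (Q c) 0 with hqc | hqc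
    · obtain ⟨w, hw⟩ := exists_B_ne_zero hQ hc0
      obtain ⟨y, hy⟩ : ∃ y, y = w - (B A w / B A A) • A := ⟨_, rfl⟩
      have hyA : B A y = 0 := by rw [hy, B_sub_right Q, B_smul_right Q, div_mul_cancel₀ _ hAA, sub_self]
      have hyc : B c y ≠ 0 := by rwa [hy, B_sub_right Q, B_smul_right Q, hcA, mul_zero, sub_zero]
      obtain ⟨c', hc'⟩ : ∃ c', c' = (B c y)⁻¹ • (y - (Q y / B c y) • c) := ⟨_, rfl⟩
      have hAc : B A c = 0 := by rw [B_comm Q, hcA]
      have hcc' : B c c' = 1 := by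
        rw [hc', B_smul_right Q, B_sub_right Q, B_smul_right Q, B_self_of_singular Q hqc, mul_zero, sub_zero,
          inv_mul_cancel₀ hyc]
      have hqc' : Q c' = 0 := by
        rw [hc', Q_smul Q, Q_sub Q, Q_smul Q, B_smul_right Q, B_comm Q y c, hqc]
        field_simp
        ring
      have hAc' : B A c' = 0 := by rw [hc', B_smul_right Q, B_sub_right Q, B_smul_right Q, hyA, hAc]; ring
      refine ⟨c' + c, by rw [B_add_right Q, hAc', hAc, add_zero], ?_, ?_, ?_⟩
      · rw [Q_add Q, hqc', hqc, B_comm Q, hcc']; simp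
      · rw [B_add_right Q, hcc', B_self_of_singular Q hqc, add_zero]; exact one_ne_zero
      · obtain ⟨α, γ, hαγ⟩ := hspanL c (B_self_of_singular Q hqc)
        rw [B_add_left Q, hcW, add_zero]
        intro h0
        have h1 : B c' c = 0 := by
          rw [hαγ, B_add_right Q, B_smul_right Q, B_smul_right Q, h0, B_comm Q c' A, hAc']; ring
        rw [B_comm Q, hcc'] at h1
        exact one_ne_zero h1
    · obtain ⟨y, hy, hy0⟩ : ∃ y ∈ Cfsg.Agent.MaxCl.Orth.perp Q (Submodule.span F (Set.range ![A, c])), y ≠ 0 := by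
        refine Submodule.exists_mem_ne_zero_of_ne_bot fun h => ?_
        have h1 := Cfsg.Agent.MaxCl.Orth.SLFour.finrank_perp_pair hQ A c
        rw [h, finrank_bot, Fintype.card_fin] at h1
        omega
      rw [mem_perp_span] at hy
      have hAy : B A y = 0 := hy A ⟨0, rfl⟩
      have hcy : B c y = 0 := hy c ⟨1, rfl⟩
      have hdec : ∀ v, v - (B c v / (2 * Q c)) • c ∈ {u | B c u = 0} := fun v => by
        show B c _ = 0
        rw [B_sub_right Q, B_smul_right Q, B_self Q]
        field_simp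
        ring
      have hyW : B y W ≠ 0 := by
        intro h0
        obtain ⟨w, hw⟩ := exists_B_ne_zero hQ hy0
        obtain ⟨α, γ, hαγ⟩ := hspanL _ (hdec w)
        rw [sub_eq_iff_eq_add] at hαγ
        apply hw
        rw [hαγ, B_add_right Q, B_add_right Q, B_smul_right Q, B_smul_right Q, B_smul_right Q, h0,
          B_comm Q y A, hAy, B_comm Q y c, hcy]
        ring
      have hy' : Q y ≠ 0 := by
        intro h0
        obtain ⟨α, γ, hαγ⟩ := hspanL y hcy
        have h1 : B y y = γ * B y W := by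
          conv_lhs => arg 2; rw [hαγ]
          rw [B_add_left Q, B_smul_left Q, B_smul_left Q, hAy, B_comm Q W y, mul_zero, zero_add]
        rw [B_self_of_singular Q h0, eq_comm, mul_eq_zero] at h1
        rw [h1.resolve_right hyW, zero_smul, add_zero] at hαγ
        have h3 := hAy
        rw [hαγ, B_smul_right Q, mul_eq_zero] at h3
        exact hy0 (by rw [hαγ, h3.resolve_right hAA, zero_smul])
      obtain ⟨t, ht0, ht⟩ : ∃ t : F, t ≠ 0 ∧ Q c + t * t * Q y ≠ 0 := by
        rcases hq with hq | hq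
        · classical
          by_contra hcon
          push Not at hcon
          have hsub : (Finset.univ.filter fun t : F => t ≠ 0) ⊆
              (Polynomial.X ^ 2 - Polynomial.C (-(Q c) / Q y)).roots.toFinset := fun t ht => by
            simp only [Finset.mem_filter, Finset.mem_univ, true_and] at ht
            rw [Multiset.mem_toFinset, Polynomial.mem_roots (Polynomial.X_pow_sub_C_ne_zero (by norm_num) _)]
            simp only [Polynomial.IsRoot, Polynomial.eval_sub, Polynomial.eval_pow, Polynomial.eval_X,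
              Polynomial.eval_C, sub_eq_zero]
            field_simp
            linear_combination hcon t ht
          have h1 := (Finset.card_le_card hsub).trans ((Multiset.toFinset_card_le _).trans
            ((Polynomial.card_roots' _).trans (le_of_eq Polynomial.natDegree_X_pow_sub_C)))
          rw [Finset.filter_ne', Finset.card_erase_of_mem (Finset.mem_univ _), Finset.card_univ] at h1
          omega
        · refine ⟨1, one_ne_zero, fun h => ?_⟩
          have := hq.2 (c + y) (by rw [B_add_right Q, hAy, B_comm Q A c, hcA, add_zero])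
            (by rw [Q_add Q, hcy]; linear_combination h)
          have h1 := congrArg (B c) this
          rw [B_add_right Q, hcy, B_self Q, B_zero_right Q, add_zero] at h1
          exact mul_ne_zero h2 hqc h1
      refine ⟨c + t • y, by rw [B_add_right Q, B_smul_right Q, hAy, B_comm Q A c, hcA]; ring, ?_, ?_, ?_⟩
      · rw [Q_add Q, Q_smul Q, B_smul_right Q, hcy, mul_zero, add_zero]; exact ht
      · rw [B_add_right Q, B_smul_right Q, hcy, mul_zero, add_zero, B_self Q]; exact mul_ne_zero h2 hqc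
      · rw [B_add_left Q, B_smul_left Q, hcW, zero_add]; exact mul_ne_zero ht0 hyW
  obtain ⟨h, hh1, hh2, hhy⟩ := exists_rot hQ h2 hxq
  refine ⟨g⁻¹ * h * g, M.mul_mem (M.mul_mem (M.inv_mem hg) (hM h hh1 hh2)) hg, -1, ?_, ?_⟩
  · rw [act_mul, act_mul, ← hAdef, hhy, B_comm Q x A, hxA, zero_div, zero_smul, add_zero, map_neg, hAdef, act_inv_act]
    simp
  · rw [act_mul, act_mul, ← hc, ← hWdef, hhy, B_add_right Q, B_neg_right Q, hcW, neg_zero, zero_add, B_smul_right Q]
    exact mul_ne_zero (div_ne_zero hxW hxq) hxc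

/-- All transvections centred at the point. -/
theorem tv_mem_of_move {a f z : Fin 3 → F} (hF : Frame Q a f z) {r : GL (Fin 3) F} (hr : r ∈ M) {l : F}
    (hra : act r a = l • a) (hrz : B a (act r z) ≠ 0) :
    ∀ φ : (Fin 3 → F) →ₗ[F] F, φ a = 0 → tv φ a ∈ M := by
  have ha0 : a ≠ 0 := fun h => by simpa [h, B_zero_left Q] using hF.af
  have hl : l ≠ 0 := by rintro rfl; rw [zero_smul] at hra; exact ha0 (act_injective r (hra.trans (map_zero _).symm))
  obtain ⟨w, hw⟩ : ∃ w, w = act r z := ⟨_, rfl⟩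
  rw [← hw] at hrz
  -- coordinates modulo `a`
  obtain ⟨η, hη⟩ : ∃ η : (Fin 3 → F) →ₗ[F] F,
      η = (2 * Q z)⁻¹ • QuadraticMap.polarBilin Q z -
        ((B z w / (2 * Q z)) / B a w) • QuadraticMap.polarBilin Q a := ⟨_, rfl⟩
  obtain ⟨β, hβ⟩ : ∃ β : (Fin 3 → F) →ₗ[F] F, β = (B a w)⁻¹ • QuadraticMap.polarBilin Q a := ⟨_, rfl⟩
  have hηy : ∀ y, η y = B z y / (2 * Q z) - B z w / (2 * Q z) / B a w * B a y := fun y => by
    rw [hη]; simp [div_eq_inv_mul]
  have hβy : ∀ y, β y = B a y / B a w := fun y => by rw [hβ]; simp [div_eq_inv_mul]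
  have hzz : B z z = 2 * Q z := B_self Q z
  have hzne : (2 : F) * Q z ≠ 0 := mul_ne_zero h2 hF.qz
  have hηa : η a = 0 := by rw [hηy, B_comm Q z a, hF.az, B_self_of_singular Q hF.qa]; simp
  have hβa : β a = 0 := by rw [hβy, B_self_of_singular Q hF.qa, zero_div]
  have hηz : η z = 1 := by rw [hηy, hzz, hF.az, div_self hzne]; ring
  have hβz : β z = 0 := by rw [hβy, hF.az, zero_div]
  have hηw : η w = 0 := by rw [hηy]; field_simp; ring
  have hβw : β w = 1 := by rw [hβy, div_self hrz]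
  have hdec : ∀ y, ∃ ρ : F, y = ρ • a + η y • z + β y • w := by
    intro y
    refine ⟨B f y - β y * B f w, ?_⟩
    have e1 := hF.dec y
    have e2 := hF.dec w
    rw [hηy, hβy]
    linear_combination (norm := skip) e1 - (B a y / B a w) • e2
    match_scalars <;> field_simp <;> ring
  have hext : ∀ φ : (Fin 3 → F) →ₗ[F] F, φ a = 0 → φ = φ z • η + φ w • β := fun φ hφ => LinearMap.ext fun y => by
    obtain ⟨ρ, hy⟩ := hdec y
    conv_lhs => rw [hy]
    simp [hφ, hηy, hβy, mul_comm]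
  -- the two root groups
  obtain ⟨U, hU⟩ : ∃ U : F → GL (Fin 3) F, ∀ s, U s = sg Q a ((s / B a w) • z) := ⟨_, fun s => rfl⟩
  have haz : ∀ s : F, B a (s • z) = 0 := fun s => by rw [B_smul_right Q, hF.az, mul_zero]
  have hUM : ∀ s, U s ∈ M := fun s => by
    rw [hU]; exact hM _ (sg_mem_iso Q _ _) (Cfsg.Agent.MaxCl.Orth.SLFour.sg_mem_sl hQ h2 _ _)
  have hUa : ∀ s, act (U s) a = a := fun s => by
    rw [hU, act_sg Q hF.qa (haz _), B_self_of_singular Q hF.qa, B_smul_left Q, B_comm Q z a, hF.az]; simp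
  have hUz : ∀ s, act (U s) z = z + (-(s / B a w * (2 * Q z))) • a := fun s => by
    rw [hU, act_sg Q hF.qa (haz _), hF.az, B_smul_left Q, hzz]; module
  have hUw : ∀ s, ∃ ρ : F, act (U s) w = w + s • z + ρ • a := fun s => by
    refine ⟨-(s / B a w * B z w + Q ((s / B a w) • z) * B a w), ?_⟩
    rw [hU, act_sg Q hF.qa (haz _), B_smul_left Q, smul_smul, mul_div_cancel₀ _ hrz]
    module
  obtain ⟨α₁, β₁, γ₁, hrinv⟩ : ∃ α β γ : F, act r⁻¹ z = α • a + β • f + γ • z := ⟨_, _, _, hF.dec _⟩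
  have hκ : β₁ ≠ 0 := by
    intro h0
    rw [h0, zero_smul, add_zero] at hrinv
    have h1 := congrArg (B a) (congrArg (act r) hrinv)
    rw [act_act_inv, hF.az, map_add, map_smul, map_smul, hra, ← hw, B_add_right Q, B_smul_right Q, B_smul_right Q,
      B_smul_right Q, B_self_of_singular Q hF.qa] at h1
    have hγ : γ₁ = 0 := (mul_eq_zero.1 (show γ₁ * B a w = 0 by linear_combination -h1)).resolve_right hrz
    rw [hγ, zero_smul, add_zero] at hrinv
    have h3 := congrArg (act r) hrinv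
    rw [act_act_inv, map_smul, hra, smul_smul] at h3
    have h5 := congrArg (B z) h3
    rw [hzz, B_smul_right Q, B_comm Q z a, hF.az, mul_zero] at h5
    exact hzne h5
  have hV : ∀ t : F, ∃ V ∈ M, act V a = a ∧ (∃ ρ : F, act V w = w + ρ • a) ∧
      ∃ ρ : F, act V z = z + t • w + ρ • a := by
    intro t
    refine ⟨r * U (t / β₁ * B a w) * r⁻¹, M.mul_mem (M.mul_mem hr (hUM _)) (M.inv_mem hr), ?_, ?_, ?_⟩
    · have hi : act r⁻¹ a = l⁻¹ • a := by
        conv_rhs => rw [← act_inv_act r a, hra, map_smul, inv_smul_smul₀ hl]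
      rw [act_mul, act_mul, hi, map_smul, hUa, map_smul, hra, inv_smul_smul₀ hl]
    · refine ⟨-(t / β₁ * B a w / B a w * (2 * Q z)) * l, ?_⟩
      rw [act_mul, act_mul, show act r⁻¹ w = z by rw [hw, act_inv_act], hUz, map_add, map_smul, hra, smul_smul, ← hw]
    · obtain ⟨ρ, hρ⟩ : ∃ ρ : F, act (U (t / β₁ * B a w)) f = f + (t / β₁) • z + ρ • a := by
        refine ⟨-(t / β₁ * B z f + Q ((t / β₁) • z)), ?_⟩
        rw [hU, mul_div_assoc, div_self hrz, mul_one, act_sg Q hF.qa (haz _), hF.af, B_smul_left Q]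
        module
      refine ⟨(β₁ * ρ + γ₁ * (-(t / β₁ * B a w / B a w * (2 * Q z)))) * l, ?_⟩
      simp only [act_mul, hrinv, map_add, map_smul, hUa, hρ, hUz]
      have h6 := congrArg (act r) hrinv
      rw [act_act_inv] at h6
      simp only [map_add, map_smul, hra, ← hw] at h6 ⊢
      linear_combination (norm := skip) -h6
      match_scalars <;> field_simp <;> ring
  -- minus one modulo `a`
  obtain ⟨V, hVM, hVa, ⟨v1, hVw⟩, ⟨v2, hVz⟩⟩ := hV (-1)
  obtain ⟨u, hUw1⟩ := hUw 1
  have hUz1 := hUz 1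
  obtain ⟨P, hP⟩ : ∃ P, P = U 1 * V * U 1 := ⟨_, rfl⟩
  have hPa : act P a = a := by rw [hP, act_mul, act_mul, hUa, hVa, hUa]
  obtain ⟨p1, hPz⟩ : ∃ ρ : F, act P z = -w + ρ • a := by
    refine ⟨-(1 / B a w * (2 * Q z)) + (-(1 / B a w * (2 * Q z))) - u + v2, ?_⟩
    simp only [hP, act_mul, hUz1, map_add, map_smul, hVa, hVz, hUa, hUw1]
    module
  obtain ⟨p2, hPw⟩ : ∃ ρ : F, act P w = z + ρ • a := by
    refine ⟨v1 + v2 + u + (-(1 / B a w * (2 * Q z))), ?_⟩
    simp only [hP, act_mul, hUw1, map_add, map_smul, hVa, hVw, hVz, hUz1, one_smul, hUa]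
    linear_combination (norm := skip) (0 : F) • hPa
    match_scalars <;> ring
  obtain ⟨m, hm⟩ : ∃ m, m = P * P := ⟨_, rfl⟩
  have hmM : m ∈ M := by
    rw [hm, hP]
    exact M.mul_mem (M.mul_mem (M.mul_mem (hUM 1) hVM) (hUM 1)) (M.mul_mem (M.mul_mem (hUM 1) hVM) (hUM 1))
  have hma : act m a = a := by rw [hm, act_mul, hPa, hPa]
  obtain ⟨m1, hmz⟩ : ∃ ρ : F, act m z = -z + ρ • a := ⟨-p2 + p1, by
    rw [hm, act_mul, hPz, map_add, map_neg, map_smul, hPw, hPa]; module⟩
  obtain ⟨m2, hmw⟩ : ∃ ρ : F, act m w = -w + ρ • a := ⟨p1 + p2, by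
    rw [hm, act_mul, hPw, map_add, map_smul, hPz, hPa]; module⟩
  -- the translations of `a`
  obtain ⟨Φ, hΦ⟩ : ∃ Φ : ((Fin 3 → F) →ₗ[F] F) → Prop, ∀ φ, Φ φ ↔ φ a = 0 ∧ tv φ a ∈ M := ⟨_, fun φ => Iff.rfl⟩
  have hadd : ∀ φ χ, Φ φ → Φ χ → Φ (φ + χ) := fun φ χ h h' => by
    rw [hΦ] at h h' ⊢
    exact ⟨by simp [h.1, h'.1], tv_add φ χ a h.1 h'.1 ▸ M.mul_mem h.2 h'.2⟩
  have hneg : ∀ φ, Φ φ → Φ (-φ) := fun φ h => by
    rw [hΦ] at h ⊢
    refine ⟨by simp [h.1], ?_⟩
    rw [show tv (-φ) a = (tv φ a)⁻¹ from eq_inv_of_mul_eq_one_left (by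
      rw [tv_add _ _ a (by simp [h.1]) h.1, neg_add_cancel, tv_zero_left])]
    exact M.inv_mem h.2
  have hcomp : ∀ φ n, Φ φ → n ∈ M → act n a = a → Φ (φ ∘ₗ act n) := fun φ n h hn hna => by
    rw [hΦ] at h ⊢
    have hi : act n⁻¹ a = a := by conv_lhs => rw [← hna, act_inv_act]
    have h1 := conj_mem (M.inv_mem hn) h.1 h.2
    rw [hi, inv_inv] at h1
    exact ⟨by simp [hna, h.1], h1⟩
  obtain ⟨φ₀, hφ₀, hφne⟩ : ∃ φ, Φ φ ∧ φ ≠ 0 := by
    obtain ⟨K, hK⟩ : ∃ K, K = m * U 1 * m⁻¹ * (U 1)⁻¹ := ⟨_, rfl⟩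
    have hKM : K ∈ M := hK ▸ M.mul_mem (M.mul_mem (M.mul_mem hmM (hUM 1)) (M.inv_mem hmM)) (M.inv_mem (hUM 1))
    have hfixd : ∀ {n : GL (Fin 3) F} {x y : Fin 3 → F}, act n x = y → act n⁻¹ y = x := fun {n x y} h => by
      rw [← h, act_inv_act]
    have hKmod : ∀ y, ∃ ρ : F, act K y = y + ρ • a := by
      obtain ⟨e₁, he1⟩ : ∃ ρ : F, act K (act (U 1) (act m z)) = act (U 1) (act m z) + ρ • a :=
        ⟨2 * (-(1 / B a w * (2 * Q z))), by
          conv_lhs => rw [hK, act_mul, act_inv_act, act_mul, act_inv_act, act_mul, hUz1, map_add, map_smul, hma, hmz]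
          rw [hmz, map_add, map_neg, map_smul, hUa, hUz1]
          module⟩
      obtain ⟨e₂, he2⟩ : ∃ ρ : F, act K (act (U 1) (act m w)) = act (U 1) (act m w) + ρ • a :=
        ⟨2 * u + m1, by
          conv_lhs => rw [hK, act_mul, act_inv_act, act_mul, act_inv_act, act_mul, hUw1, map_add, map_add, map_smul,
            map_smul, hma, hmz, hmw]
          rw [hmw, map_add, map_neg, map_smul, hUa, hUw1]
          module⟩
      have hKa : act K a = a := by
        rw [hK, act_mul, act_mul, act_mul, hfixd (hUa 1), hfixd hma, hUa, hma]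
      intro y
      obtain ⟨ρ, hy⟩ := hdec y
      rw [hy]
      rw [hmz, map_add, map_neg, map_smul, hUa, hUz1] at he1
      rw [hmw, map_add, map_neg, map_smul, hUa, hUw1] at he2
      simp only [map_add, map_neg, map_smul, hKa] at he1 he2
      refine ⟨-(η y) * e₁ + η y * 0 + (-(β y) * e₂) + β y * (-e₁ * (-1)) * 1, ?_⟩
      simp only [map_add, map_smul, hKa]
      have hKz : act K z = z + (-e₁) • a := by linear_combination (norm := module) (-1 : F) • he1
      rw [one_smul] at he2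
      have hKw : act K w = w + (e₁ - e₂) • a := by
        linear_combination (norm := skip) (-1 : F) • he2 - hKz
        match_scalars <;> ring
      rw [hKz, hKw]
      module
    obtain ⟨φ, hφ⟩ : ∃ φ : (Fin 3 → F) →ₗ[F] F, ∀ y, act K y = y + φ y • a := by
      obtain ⟨i, hi⟩ := Function.ne_iff.1 ha0
      refine ⟨(a i)⁻¹ • (LinearMap.proj i ∘ₗ (act K - LinearMap.id)), fun y => ?_⟩
      obtain ⟨ρ, hρ⟩ := hKmod y
      simp only [LinearMap.smul_apply, LinearMap.comp_apply, LinearMap.sub_apply, LinearMap.id_apply,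
        LinearMap.proj_apply, hρ, add_sub_cancel_left, Pi.smul_apply, smul_eq_mul]
      congr 2
      have hi' : a i ≠ 0 := hi
      field_simp
    have hKa : act K a = a := by
      rw [hK, act_mul, act_mul, act_mul, hfixd (hUa 1), hfixd hma, hUa, hma]
    have hφa : φ a = 0 := (smul_eq_zero.1 (add_eq_left.1 ((hφ a).symm.trans hKa))).resolve_right ha0
    refine ⟨φ, (hΦ φ).2 ⟨hφa, ?_⟩, fun h0 => ?_⟩
    · rwa [show tv φ a = K from gl_ext fun y => by rw [act_tv hφa, hφ]]
    · have hK1 : K = 1 := gl_ext fun y => by rw [hφ, h0, act_one]; simp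
      rw [hK1] at hK
      have hcm : U 1 * m = m * U 1 := by
        have := congrArg (fun g => g * U 1 * m) hK
        simpa [mul_assoc] using this
      have h := congrArg (fun g => act g z) hcm
      simp only [act_mul, hmz, hUz1, map_add, map_neg, map_smul, hUa, hma] at h
      have h4 : ((2 : F) * (1 / B a w * (2 * Q z))) • a = 0 := by linear_combination (norm := module) h
      exact mul_ne_zero h2 (mul_ne_zero (one_div_ne_zero hrz) hzne) ((smul_eq_zero.1 h4).resolve_right ha0)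
  have hβall : ∀ φ, Φ φ → φ z ≠ 0 → ∀ k : F, Φ (k • β) := by
    intro φ hφ hz k
    have hφa := ((hΦ φ).1 hφ).1
    obtain ⟨ρ, hρ⟩ := hUw (k / φ z)
    have h := hadd _ _ (hcomp φ (U (k / φ z)) hφ (hUM _) (hUa _)) (hneg φ hφ)
    convert h using 1
    rw [hext (φ ∘ₗ act (U (k / φ z)) + -φ) (by simp [hφa, hUa])]
    simp only [LinearMap.add_apply, LinearMap.neg_apply, LinearMap.comp_apply, hUz, hρ, map_add, map_smul, hφa,
      smul_eq_mul]
    rw [div_mul_cancel₀ _ hz]
    module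
  have hηall : ∀ φ, Φ φ → φ w ≠ 0 → ∀ k : F, Φ (k • η) := by
    intro φ hφ hw' k
    have hφa := ((hΦ φ).1 hφ).1
    obtain ⟨V', hV'M, hV'a, ⟨v, hv⟩, ⟨v', hv'⟩⟩ := hV (k / φ w)
    have h := hadd _ _ (hcomp φ V' hφ hV'M hV'a) (hneg φ hφ)
    convert h using 1
    rw [hext (φ ∘ₗ act V' + -φ) (by simp [hφa, hV'a])]
    simp only [LinearMap.add_apply, LinearMap.neg_apply, LinearMap.comp_apply, hv, hv', map_add, map_smul, hφa,
      smul_eq_mul]
    rw [div_mul_cancel₀ _ hw']
    module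
  have hboth : (∀ k : F, Φ (k • η)) ∧ ∀ k : F, Φ (k • β) := by
    have hφa := ((hΦ φ₀).1 hφ₀).1
    rcases eq_or_ne (φ₀ z) 0 with h0 | h0
    · have hw0 : φ₀ w ≠ 0 := fun h => hφne (by rw [hext φ₀ hφa, h0, h]; simp)
      exact ⟨hηall φ₀ hφ₀ hw0, hβall _ (hηall φ₀ hφ₀ hw0 1) (by simp [hηz])⟩
    · exact ⟨hηall _ (hβall φ₀ hφ₀ h0 1) (by simp [hβw]), hβall φ₀ hφ₀ h0⟩
  intro φ hφ
  rw [hext φ hφ]
  exact ((hΦ _).1 (hadd _ _ (hboth.1 _) (hboth.2 _))).2

/-- One full centre gives everything. -/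
theorem specialLinear_le_of_full {a f z : Fin 3 → F} (hF : Frame Q a f z)
    (hfull : ∀ φ : (Fin 3 → F) →ₗ[F] F, φ a = 0 → tv φ a ∈ M) : Cfsg.Geo.specialLinear (Fin 3) F ≤ M := by
  have ha0 : a ≠ 0 := fun h => by simpa [h, B_zero_left Q] using hF.af
  obtain ⟨d, hd⟩ : ∃ d, d = Q z := ⟨_, rfl⟩
  have hd0 : d ≠ 0 := hd ▸ hF.qz
  obtain ⟨Full, hFull⟩ : ∃ Full : (Fin 3 → F) → Prop,
      ∀ y, Full y ↔ ∀ φ : (Fin 3 → F) →ₗ[F] F, φ y = 0 → tv φ y ∈ M := ⟨_, fun y => Iff.rfl⟩
  have hsm : ∀ (c : F) y, Full y → c ≠ 0 → Full (c • y) := fun c y hy hc => by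
    rw [hFull] at hy ⊢
    intro φ hφ
    rw [map_smul, smul_eq_zero] at hφ
    rw [← tv_smul_swap _ _ _ (hφ.resolve_left hc)]
    exact hy _ (by simp [hφ.resolve_left hc])
  have hconj : ∀ y n, Full y → n ∈ M → Full (act n y) := fun y n hy hn => by
    rw [hFull] at hy ⊢
    intro φ hφ
    have h1 := conj_mem hn (φ := φ ∘ₗ act n) (v := y) hφ (hy _ hφ)
    rwa [LinearMap.comp_assoc, show act n ∘ₗ act n⁻¹ = LinearMap.id from LinearMap.ext (act_act_inv n),
      LinearMap.comp_id] at h1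
  have haF : Full a := (hFull a).2 hfull
  have hshift : ∀ x y, Full x → Full y → y ∉ F ∙ x → ∀ k : F, Full (y + k • x) := fun x y hx hy hne k => by
    obtain ⟨θ, h0, h1⟩ := exists_dual _ hne
    have hθx : θ x = 0 := h0 x (Submodule.mem_span_singleton_self x)
    have h3 := (hFull x).1 hx (k • θ) (by simp [hθx])
    have := hconj y _ hy h3
    rwa [act_tv (by simp [hθx]), LinearMap.smul_apply, h1, smul_eq_mul, mul_one] at this
  have hfF : Full f := by
    obtain ⟨h, hh1, hh2, hhy⟩ := exists_rot hQ h2 (x := a + f) (by rw [Q_add Q, hF.qa, hF.qf, hF.af]; simp)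
    have := hconj a h haF (hM h hh1 hh2)
    rw [hhy, Q_add Q, hF.qa, hF.qf, hF.af, B_add_left Q, B_self_of_singular Q hF.qa, B_comm Q f a, hF.af] at this
    simpa using this
  have hcone : ∀ t : F, Full (f + t • z + (-(t * t * d)) • a) := by
    intro t
    have haz : B a (t • z) = 0 := by rw [B_smul_right Q, hF.az, mul_zero]
    have := hconj f _ hfF (hM _ (sg_mem_iso Q a (t • z)) (Cfsg.Agent.MaxCl.Orth.SLFour.sg_mem_sl hQ h2 _ _))
    rw [act_sg Q hF.qa haz, hF.af, one_smul, mul_one, B_smul_left Q, B_comm Q z f, hF.fz, mul_zero, zero_add,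
      Q_smul Q, ← hd] at this
    convert this using 1
    module
  have hnot : ∀ {y x : Fin 3 → F} (ψ : (Fin 3 → F) →ₗ[F] F), ψ x = 0 → ψ y ≠ 0 → y ∉ F ∙ x :=
    fun {y x} ψ h0 h1 e => by
      obtain ⟨r, rfl⟩ := Submodule.mem_span_singleton.1 e
      simp [h0] at h1
  have hall : ∀ y, y ≠ 0 → Full y := by
    intro y hy
    obtain ⟨α, β, γ, rfl⟩ : ∃ α β γ : F, y = α • a + β • f + γ • z := ⟨_, _, _, hF.dec y⟩
    have hβf : ∀ p q r : F, QuadraticMap.polarBilin Q a (p • f + q • z + r • a) = p := fun p q r => by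
      rw [QuadraticMap.polarBilin_apply_apply]
      simp [B_add_right Q, B_smul_right Q, hF.af, hF.az, B_self_of_singular Q hF.qa]
    rcases eq_or_ne β 0 with hb | hb
    · rcases eq_or_ne γ 0 with hg | hg
      · have : α ≠ 0 := fun h => hy (by simp [h, hb, hg])
        simpa [hb, hg] using hsm α a haF this
      · -- kill the `f` part
        have h1 := hshift f (f + (1 : F) • z + (-(1 * 1 * d)) • a) hfF (hcone 1)
          (hnot (QuadraticMap.polarBilin Q f) (by simp [B_self_of_singular Q hF.qf]) (by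
            simp [B_add_right Q, B_smul_right Q, B_self_of_singular Q hF.qf, hF.fz, B_comm Q f a, hF.af, hd0])) (-1)
        have h3 := hshift a _ haF h1 (hnot (QuadraticMap.polarBilin Q z) (by simp [B_comm Q z a, hF.az]) (by
          simp [B_add_right Q, B_smul_right Q, B_comm Q z a, B_comm Q z f, hF.az, hF.fz, B_self Q, h2, hF.qz])) (α / γ + d)
        have h5 := hsm γ _ h3 hg
        convert h5 using 1
        rw [hb]
        match_scalars <;> field_simp <;> ring
    · have h1 := hshift a _ haF (hcone (γ / β)) (hnot (QuadraticMap.polarBilin Q a)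
        (by simp [B_self_of_singular Q hF.qa]) (by
          have := hβf 1 (γ / β) (-(γ / β * (γ / β) * d))
          rw [one_smul] at this
          rw [this]; exact one_ne_zero)) (α / β + γ / β * (γ / β) * d)
      have h5 := hsm β _ h1 hb
      convert h5 using 1
      match_scalars <;> field_simp <;> ring
  exact specialLinear_le_of_transvections M fun φ v hφ => by
    rcases eq_or_ne v 0 with rfl | hv
    · rw [show tv φ (0 : Fin 3 → F) = 1 from gl_ext fun x => by rw [act_tv (map_zero φ)]; simp [act_one]]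
      exact M.one_mem
    · exact (hFull v).1 (hall v hv) φ hφ

/-- Over three scalars some singular vector goes to an internal one. -/
theorem exists_internal_image (h3 : Fintype.card F = 3) {g : GL (Fin 3) F} (hg : g ∈ M) {a : Fin 3 → F}
    (ha : Q a = 0) (hA : Q (act g a) ≠ 0) : ∃ n ∈ M, ∃ b, Q b = 0 ∧ Internal Q (act n b) := by
  classical
  by_contra hcon
  push Not at hcon
  have hF3 : ∀ x : F, x = 0 ∨ x = 1 ∨ x = -1 := by
    intro x
    have hx := FiniteField.pow_card x
    rw [h3] at hx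
    rcases mul_eq_zero.1 (show x * ((x - 1) * (x + 1)) = 0 by linear_combination hx) with h | h
    · exact Or.inl h
    rcases mul_eq_zero.1 h with h | h
    · exact Or.inr (Or.inl (sub_eq_zero.1 h))
    · exact Or.inr (Or.inr (eq_neg_of_add_eq_zero_left h))
  have hthree : (3 : F) = 0 := by
    have := FiniteField.cast_card_eq_zero F
    rw [h3] at this; simpa using this
  have ha0 : a ≠ 0 := fun h => hA (by rw [h, map_zero, QuadraticMap.map_zero])
  obtain ⟨f, z, hF⟩ := exists_frame hQ h2 ha ha0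
  obtain ⟨δ, hδ⟩ : ∃ δ, δ = -(Q z) := ⟨_, rfl⟩
  have hδ0 : δ ≠ 0 := hδ ▸ neg_ne_zero.2 hF.qz
  have hother : ∀ x : F, x ≠ 0 → x ≠ δ → x = -δ := fun x h0 h1 => by
    rcases hF3 x with rfl | rfl | rfl <;> rcases hF3 δ with rfl | rfl | rfl <;> simp_all
  -- rotations move vectors of equal value
  have hmove : ∀ u v, Q u = Q v → Q u ≠ 0 → ∃ h ∈ isometryGroup F Q, h ∈ M ∧ (act h u = v ∨ act h u = -v) := by
    intro u v huv hu
    rcases eq_or_ne (Q (u + v)) 0 with h0 | h0
    · have h1 : Q (u - v) ≠ 0 := fun h => hu (by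
        have e1 := Q_add Q u v
        have e2 := Q_sub Q u v
        rw [h0, ← huv] at e1
        rw [h, ← huv] at e2
        exact (mul_eq_zero.1 (show (2 * 2 : F) * Q u = 0 by linear_combination -e1 - e2)).resolve_left
          (mul_ne_zero h2 h2))
      obtain ⟨h, hh1, hh2, hhy⟩ := exists_rot hQ h2 h1
      refine ⟨h, hh1, hM h hh1 hh2, Or.inr ?_⟩
      rw [hhy, show B (u - v) u = Q (u - v) by rw [B_sub_left Q, Q_sub Q, B_self Q, B_comm Q v u, huv]; ring,
        div_self h1]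
      module
    · obtain ⟨h, hh1, hh2, hhy⟩ := exists_rot hQ h2 h0
      refine ⟨h, hh1, hM h hh1 hh2, Or.inl ?_⟩
      rw [hhy, show B (u + v) u = Q (u + v) by rw [B_add_left Q, Q_add Q, B_self Q, B_comm Q v u, huv]; ring,
        div_self h0]
      module
  have hint : ∀ h ∈ isometryGroup F Q, ∀ A A', (act h A = A' ∨ act h A = -A') → Internal Q A → Internal Q A' := by
    intro h hh A A' he hI
    obtain ⟨e, he1, he'⟩ : ∃ e : F, e * e = 1 ∧ A' = e • act h A := by
      rcases he with he | he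
      · exact ⟨1, one_mul 1, by rw [he, one_smul]⟩
      · exact ⟨-1, by ring, by rw [he, smul_neg, neg_smul, one_smul, neg_neg]⟩
    refine ⟨by rw [he', Q_smul Q, Q_act hh, he1, one_mul]; exact hI.1, fun y hy hy0 => ?_⟩
    obtain ⟨y', rfl⟩ : ∃ y', act h y' = y := ⟨_, act_act_inv _ _⟩
    rw [he', B_smul_left Q, B_act hh] at hy
    rw [Q_act hh] at hy0
    rw [hI.2 y' ((mul_eq_zero.1 hy).resolve_left fun e0 => by simp [e0] at he1) hy0, map_zero]
  -- an orthogonal basis of one value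
  obtain ⟨e₁, he₁⟩ : ∃ e, e = z + (a + Q z • f) := ⟨_, rfl⟩
  obtain ⟨e₂, he₂⟩ : ∃ e, e = z - (a + Q z • f) := ⟨_, rfl⟩
  obtain ⟨e₃, he₃⟩ : ∃ e, e = a - Q z • f := ⟨_, rfl⟩
  have hval : Q e₁ = δ ∧ Q e₂ = δ ∧ Q e₃ = δ ∧ B e₁ e₂ = 0 ∧ B e₁ e₃ = 0 ∧ B e₂ e₃ = 0 := by
    simp only [he₁, he₂, he₃, hδ, Q_add Q, Q_sub Q, Q_smul Q, B_add_left Q, B_add_right Q, B_sub_left Q,
      B_sub_right Q, B_smul_left Q, B_smul_right Q, B_comm Q f a, B_comm Q z a, B_comm Q z f, hF.qa, hF.qf, hF.af,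
      hF.az, hF.fz, B_self Q z, B_self_of_singular Q hF.qa, B_self_of_singular Q hF.qf]
    refine ⟨?_, ?_, ?_, ?_, ?_, ?_⟩ <;> first | ring1 | linear_combination (Q z) * hthree
  obtain ⟨hq1, hq2, hq3, h12, h13, h23⟩ := hval
  have htwo : (2 : F) = -1 := by linear_combination hthree
  have hdec : ∀ y, y = (B e₁ y / (2 * δ)) • e₁ + (B e₂ y / (2 * δ)) • e₂ + (B e₃ y / (2 * δ)) • e₃ := by
    intro y
    have hz0 : Q z ≠ 0 := hF.qz
    conv_lhs => rw [hF.dec y]
    simp only [he₁, he₂, he₃, hδ, B_add_left Q, B_sub_left Q, B_smul_left Q]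
    match_scalars <;> field_simp <;> first | ring1 | (ring_nf; simp only [hthree, htwo]; ring)
  have hintδ : ∀ u, Q u = δ → Internal Q u := by
    intro u hu
    obtain ⟨h, hh, -, he⟩ := hmove e₁ u (hq1.trans hu.symm) (hq1 ▸ hδ0)
    refine hint h hh e₁ u he ⟨hq1 ▸ hδ0, fun y hy hy0 => ?_⟩
    have e := hdec y
    rw [hy, zero_div, zero_smul, zero_add] at e
    obtain ⟨s, hs⟩ : ∃ s, s = B e₂ y / (2 * δ) := ⟨_, rfl⟩
    obtain ⟨t, ht⟩ : ∃ t, t = B e₃ y / (2 * δ) := ⟨_, rfl⟩
    rw [← hs, ← ht] at e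
    rw [e, Q_add Q, Q_smul Q, Q_smul Q, B_smul_left Q, B_smul_right Q, hq2, hq3, h23] at hy0
    have hst : s * s + t * t = 0 := by
      refine (mul_eq_zero.1 (show δ * (s * s + t * t) = 0 by linear_combination hy0)).resolve_left hδ0
    have h20 : (1 : F) + 1 ≠ 0 := by rwa [one_add_one_eq_two]
    rcases hF3 s with rfl | rfl | rfl <;> rcases hF3 t with rfl | rfl | rfl <;>
      first | (rw [e]; simp; done) | exact absurd hst (by norm_num [h2])
  -- values δ are preserved
  have hkeep : ∀ n ∈ M, ∀ u, Q u = δ → Q (act n u) = δ := by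
    intro n hn u hu
    by_contra hne
    rcases eq_or_ne (Q (act n u)) 0 with h0 | h0
    · exact hcon n⁻¹ (M.inv_mem hn) _ h0 (by rw [act_inv_act]; exact hintδ u hu)
    · have hA' : Q (act g a) = -δ := hother _ hA fun e => hcon g hg a ha (hintδ _ e)
      obtain ⟨h, -, hhM, he⟩ := hmove (act g a) (act n u) (by rw [hA', hother _ h0 hne]) hA
      refine hcon (n⁻¹ * h * g) (M.mul_mem (M.mul_mem (M.inv_mem hn) hhM) hg) a ha (hintδ _ ?_)
      rw [act_mul, act_mul]
      rcases he with he | he <;> rw [he]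
      · rw [act_inv_act, hu]
      · rw [map_neg, act_inv_act, Q_neg Q, hu]
  have hpair : ∀ u v, Q u = δ → Q v = δ → B u v = 0 → B (act g u) (act g v) = 0 := by
    intro u v hu hv huv
    have h1 : Q (act g (u + v)) ≠ δ := fun h => by
      have := hkeep g⁻¹ (M.inv_mem hg) _ h
      rw [act_inv_act, Q_add Q, hu, hv, huv] at this
      exact hδ0 (by linear_combination this)
    have h3' : Q (act g (u - v)) ≠ δ := fun h => by
      have := hkeep g⁻¹ (M.inv_mem hg) _ h
      rw [act_inv_act, Q_sub Q, hu, hv, huv] at this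
      exact hδ0 (by linear_combination this)
    rw [map_add, Q_add Q, hkeep g hg u hu, hkeep g hg v hv] at h1
    rw [map_sub, Q_sub Q, hkeep g hg u hu, hkeep g hg v hv] at h3'
    by_contra hne
    rcases eq_or_ne (B (act g u) (act g v)) δ with e | e
    · exact h3' (by rw [e]; ring)
    · exact h1 (by rw [hother _ hne e]; ring)
  apply hA
  rw [hdec a]
  simp only [map_add, map_smul, Q_add Q, Q_smul Q, B_add_left Q, B_smul_left Q, B_smul_right Q,
    hkeep g hg _ hq1, hkeep g hg _ hq2, hkeep g hg _ hq3, hpair _ _ hq1 hq2 h12, hpair _ _ hq1 hq3 h13,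
    hpair _ _ hq2 hq3 h23]
  have h5 := congrArg Q (hdec a)
  simp only [ha, Q_add Q, Q_smul Q, B_add_left Q, B_smul_left Q, B_smul_right Q, hq1, hq2, hq3, h12, h13, h23] at h5
  linear_combination -h5

end Cfsg.Agent.MaxCl.SLThree.Conic

namespace Cfsg.Agent.MaxCl.SLThree

open scoped MatrixGroups Matrix
open Module (finrank)
open Cfsg.Agent.MaxCl.Orth

/-- **The similarities of a non-degenerate quadratic form are maximal in `SL₃`, odd characteristic.** -/
theorem orth_maximal {F : Type*} [Field F] [Fintype F] :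
    Odd (Fintype.card F) → ∀ Q : (Fin 3 → F) → F, Cfsg.Geo.IsNondegenerateQuadraticForm Q →
      Cfsg.Geo.IsMaximalIn (Cfsg.Geo.specialLinear (Fin 3) F)
        (Cfsg.Geo.quadSimilarityGroup Q ⊓ Cfsg.Geo.specialLinear (Fin 3) F) := by
  intro hodd Q hQ
  obtain ⟨q, rfl, hnd⟩ := exists_form hQ
  have h2 : (2 : F) ≠ 0 := Ring.two_ne_zero fun h =>
    (Nat.not_even_iff_odd.2 hodd) (Nat.even_iff.2 (FiniteField.even_card_iff_char_two.1 h))
  obtain ⟨u, -, hu0, hu⟩ := exists_singular q (D := (⊤ : Submodule F (Fin 3 → F))) (by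
    rw [finrank_top, Module.finrank_pi, Fintype.card_fin])
  refine isMaximalIn_inf ?_ fun M hM hMK hout => ?_
  · obtain ⟨f, z, hF⟩ := Conic.exists_frame hnd h2 hu hu0
    have huu : QuadraticMap.polarBilin q u u = 0 := B_self_of_singular q hu
    refine ⟨tv (QuadraticMap.polarBilin q u) u, tv_det huu, fun ⟨c, hc⟩ => ?_⟩
    have h1 := hc f
    rw [← act_apply, act_tv huu, QuadraticMap.polarBilin_apply_apply, hF.af, one_smul, Q_add q, hF.qf, hu,
      B_comm q f u, hF.af] at h1
    simp at h1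
  obtain ⟨g, hg, hgs⟩ := hout
  have hiso : ∀ h ∈ isometryGroup F q, h ∈ Cfsg.Geo.specialLinear (Fin 3) F → h ∈ M := fun h hh hd =>
    hM ⟨⟨1, fun v => by rw [Units.val_one, one_mul, ← act_apply, Q_act hh]⟩, hd⟩
  obtain ⟨a, ha, hA⟩ : ∃ a, q a = 0 ∧ q (act g a) ≠ 0 := by
    by_contra h
    push Not at h
    exact hgs (Conic.similarity_of_cone hnd h2 g h)
  obtain ⟨n, hn, b, hb, hB, hq⟩ : ∃ n ∈ M, ∃ b, q b = 0 ∧ q (act n b) ≠ 0 ∧
      (4 ≤ Fintype.card F ∨ Conic.Internal q (act n b)) := by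
    by_cases h4 : 4 ≤ Fintype.card F
    · exact ⟨g, hg, a, ha, hA, Or.inl h4⟩
    · have h3 : Fintype.card F = 3 := by
        have := Fintype.one_lt_card (α := F)
        obtain ⟨k, hk⟩ := hodd
        omega
      obtain ⟨n, hn, b, hb, hI⟩ := Conic.exists_internal_image hnd h2 hiso h3 hg ha hA
      exact ⟨n, hn, b, hb, hI.1, Or.inr hI⟩
  have hb0 : b ≠ 0 := fun e => hB (by rw [e, map_zero, QuadraticMap.map_zero])
  obtain ⟨f, z, hF⟩ := Conic.exists_frame hnd h2 hb hb0
  obtain ⟨r, hr, l, hra, hrz⟩ := Conic.exists_move hnd h2 hiso hF hn hB hq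
  exact Conic.specialLinear_le_of_full hnd h2 hiso hF (Conic.tv_mem_of_move hnd h2 hiso hF hr hra hrz)

end Cfsg.Agent.MaxCl.SLThree
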