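/-
The similarity group of a unitary form is maximal in the special linear group of degree three.

Isotropic points are centres and their polars axes. An element outside makes a non-isotropic point a centre, hence
every point, and then some line polar to a non-isotropic point is an axis, hence every line.
-/
import Cfsg.Agent.Lib.MaxCl.SLThree.Elation
import Cfsg.Agent.Lib.MaxCl.Unitary
import Cfsg.Agent.Lib.MaxCl.OrthParabolic

set_option autoImplicit false
set_option linter.unusedSectionVars false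

namespace Cfsg.Agent.MaxCl.SLThree.Herm

open scoped MatrixGroups Matrix
open Module (finrank)
open Cfsg.Agent.MaxCl.Unit

variable {F : Type*} [Field F] [Fintype F] {σ : F ≃+* F} {f : (Fin 3 → F) → (Fin 3 → F) → F}
variable (hU : Cfsg.Geo.IsUnitaryForm σ f)
include hU

/-- The orthogonal of a non-isotropic vector contains a non-isotropic one. -/
theorem exists_perp_aniso {A : Fin 3 → F} (hA : f A A ≠ 0) : ∃ y, f y A = 0 ∧ f y y ≠ 0 := by
  by_contra h
  push Not at h
  have hperp : ∀ x, f (x - (f x A / f A A) • A) A = 0 := fun x => by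
    rw [sub_left hU, smul_left hU, div_mul_cancel₀ _ hA, sub_self]
  obtain ⟨y, hy, hy0⟩ : ∃ y ∈ uperp hU (F ∙ A), y ≠ 0 := by
    refine Submodule.exists_mem_ne_zero_of_ne_bot fun hb => ?_
    have h1 := finrank_uperp_ge hU (F ∙ A)
    have h2 : finrank F (F ∙ A) ≤ 1 := (finrank_span_le_card _).trans (by simp)
    rw [hb, finrank_bot, Fintype.card_fin] at h1
    omega
  have hyA : f y A = 0 := hy A (Submodule.mem_span_singleton_self A)
  obtain ⟨x, hx⟩ := (hU.nondegenerate y hy0).2
  obtain ⟨x', hx'⟩ : ∃ x', x' = x - (f x A / f A A) • A := ⟨_, rfl⟩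
  have hyx : f y x' ≠ 0 := by rwa [hx', sub_right hU, smul_right hU, hyA, mul_zero, sub_zero]
  have hx'A : f x' A = 0 := by rw [hx']; exact hperp x
  obtain ⟨e, he⟩ := exists_trace_one hU.involutive hU.ne_refl
  have h1 := h (y + σ (e / f y x') • x') (by
    rw [add_left hU, smul_left hU, hyA, hx'A, mul_zero, add_zero])
  rw [add_left hU, add_right hU, add_right hU, smul_left hU, smul_left hU, smul_right hU, smul_right hU,
    h y hyA, h x' (hx'A), hU.involutive, div_mul_cancel₀ _ hyx, ← herm' hU y x'] at h1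
  simp only [mul_zero, zero_add, add_zero] at h1
  rw [← map_mul, div_mul_cancel₀ _ hyx, he] at h1
  exact one_ne_zero h1

/-- An isotropic partner orthogonal to a given non-isotropic vector. -/
theorem exists_partner' {A w : Fin 3 → F} (hA : f A A ≠ 0) (hw : f w w = 0) (hw0 : w ≠ 0) (hwA : f w A = 0) :
    ∃ b, f b b = 0 ∧ f b A = 0 ∧ f b w = 1 := by
  obtain ⟨x, hx⟩ := (hU.nondegenerate w hw0).1
  obtain ⟨y, hy⟩ : ∃ y, y = (f x w)⁻¹ • (x - (f x A / f A A) • A) := ⟨_, rfl⟩
  have hyA : f y A = 0 := by rw [hy, smul_left hU, sub_left hU, smul_left hU, div_mul_cancel₀ _ hA, sub_self, mul_zero]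
  have hyw : f y w = 1 := by
    rw [hy, smul_left hU, sub_left hU, smul_left hU, eq_zero_symm hU hwA, mul_zero, sub_zero,
      inv_mul_cancel₀ hx]
  obtain ⟨e, he⟩ := exists_isotropic_shift hU hw hyw
  exact ⟨_, he, by rw [add_left hU, smul_left hU, hyA, hwA, mul_zero, add_zero],
    by rw [add_left hU, smul_left hU, hyw, hw, mul_zero, add_zero]⟩

omit hU in
/-- A hyperbolic pair and a vector orthogonal to both, spanning. -/
theorem exists_coords (hU : Cfsg.Geo.IsUnitaryForm σ f) {a b z : Fin 3 → F} (ha : f a a = 0) (hb : f b b = 0)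
    (hba : f b a = 1) (hbz : f b z = 0) (haz : f a z = 0) (hz : f z z ≠ 0) :
    ∀ x, x = f x b • a + f x a • b + (f x z / f z z) • z := by
  intro x
  by_contra hne
  obtain ⟨r, hr⟩ : ∃ r, r = x - (f x b • a + f x a • b + (f x z / f z z) • z) := ⟨_, rfl⟩
  have hab : f a b = 1 := by rw [← herm' hU, hba, map_one]
  have hra : f r a = 0 := by
    rw [hr, sub_left hU, add_left hU, add_left hU, smul_left hU, smul_left hU, smul_left hU, ha, hba,
      eq_zero_symm hU haz]
    ring
  have hrb : f r b = 0 := by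
    rw [hr, sub_left hU, add_left hU, add_left hU, smul_left hU, smul_left hU, smul_left hU, hab, hb,
      eq_zero_symm hU hbz]
    ring
  have hrz : f r z = 0 := by
    rw [hr, sub_left hU, add_left hU, add_left hU, smul_left hU, smul_left hU, smul_left hU, haz, hbz]
    field_simp
    ring
  have hli : LinearIndependent F ![a, b, z] := by
    rw [Fintype.linearIndependent_iff]
    intro g hg
    simp only [Fin.sum_univ_three, Matrix.cons_val_zero, Matrix.cons_val_one, Matrix.cons_val_two,
      Matrix.tail_cons, Matrix.head_cons] at hg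
    have h0 : g 0 = 0 := by
      have := congrArg (fun v => f v b) hg
      simp only [add_left hU, smul_left hU, hab, hb, eq_zero_symm hU hbz, zero_left hU] at this
      linear_combination this
    have h1 : g 1 = 0 := by
      have := congrArg (fun v => f v a) hg
      simp only [add_left hU, smul_left hU, ha, hba, eq_zero_symm hU haz, zero_left hU] at this
      linear_combination this
    have h3 : g 2 = 0 := by
      have := congrArg (fun v => f v z) hg
      simp only [add_left hU, smul_left hU, haz, hbz, zero_left hU, mul_zero, zero_add] at this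
      exact (mul_eq_zero.1 this).resolve_right hz
    intro i
    fin_cases i <;> assumption
  have hr0 : r ≠ 0 := fun h => hne (sub_eq_zero.1 (hr ▸ h))
  obtain ⟨y, hy⟩ := (hU.nondegenerate r hr0).1
  apply hy
  have hmem : y ∈ Submodule.span F (Set.range ![a, b, z]) := by
    rw [hli.span_eq_top_of_card_eq_finrank (by simp [Module.finrank_pi])]; trivial
  obtain ⟨g, hg⟩ := (Submodule.mem_span_range_iff_exists_fun F).1 hmem
  rw [← hg]
  simp only [Fin.sum_univ_three, Matrix.cons_val_zero, Matrix.cons_val_one, Matrix.cons_val_two,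
    Matrix.tail_cons, Matrix.head_cons, add_left hU, smul_left hU, eq_zero_symm hU hra, eq_zero_symm hU hrb,
    eq_zero_symm hU hrz, mul_zero, add_zero]

/-- Every non-isotropic vector has an isotropic one orthogonal to it. -/
theorem exists_iso_perp {A : Fin 3 → F} (hA : f A A ≠ 0) : ∃ w, w ≠ 0 ∧ f w w = 0 ∧ f w A = 0 := by
  obtain ⟨y, hyA, hy⟩ := exists_perp_aniso hU hA
  obtain ⟨x, hx, hx0⟩ : ∃ x ∈ uperp hU (Submodule.span F (Set.range ![A, y])), x ≠ 0 := by
    refine Submodule.exists_mem_ne_zero_of_ne_bot fun hb => ?_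
    have h1 := finrank_uperp_ge hU (Submodule.span F (Set.range ![A, y]))
    have h2 := finrank_range_le_card (R := F) ![A, y]
    rw [hb, finrank_bot, Fintype.card_fin] at h1
    rw [Fintype.card_fin] at h2
    simp only [Set.finrank] at h2
    omega
  have hxA : f x A = 0 := hx A (Submodule.subset_span ⟨0, rfl⟩)
  have hxy : f x y = 0 := hx y (Submodule.subset_span ⟨1, rfl⟩)
  obtain ⟨s, t, hst, h⟩ := exists_isotropic_pair hU y x
  refine ⟨s • y + t • x, fun h0 => ?_, h, by rw [add_left hU, smul_left hU, smul_left hU, hyA, hxA]; ring⟩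
  have h1 := congrArg (fun v => f v y) h0
  simp only [add_left hU, smul_left hU, hxy, zero_left hU, mul_zero, add_zero] at h1
  have hs : s = 0 := (mul_eq_zero.1 h1).resolve_right hy
  rw [hs, zero_smul, zero_add, smul_eq_zero] at h0
  exact hst.elim (fun h => h hs) fun ht => hx0 (h0.resolve_left ht)

/-- An element preserving the isotropic vectors is a similarity. -/
theorem similarity_of_cone (g : GL (Fin 3) F) (hg : ∀ u, f u u = 0 → f (act g u) (act g u) = 0) :
    g ∈ Cfsg.Geo.similarityGroup f := by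
  obtain ⟨v, hv⟩ : ∃ v : Fin 3 → F, v ≠ 0 := exists_ne 0
  obtain ⟨z, hz⟩ : ∃ z, f z z ≠ 0 := by
    by_contra h
    push Not at h
    obtain ⟨x, hx⟩ := (hU.nondegenerate v hv).2
    obtain ⟨e, he⟩ := exists_trace_one hU.involutive hU.ne_refl
    have h1 := h (v + σ (e / f v x) • x)
    rw [add_left hU, add_right hU, add_right hU, smul_left hU, smul_left hU, smul_right hU, smul_right hU,
      h v, h x, hU.involutive, div_mul_cancel₀ _ hx, ← herm' hU v x] at h1
    simp only [mul_zero, zero_add, add_zero] at h1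
    rw [← map_mul, div_mul_cancel₀ _ hx, he] at h1
    exact one_ne_zero h1
  obtain ⟨a, ha0, ha, haz⟩ := exists_iso_perp hU hz
  obtain ⟨b, hb, hbz, hba⟩ := exists_partner' hU hz ha ha0 haz
  have hdec := exists_coords hU ha hb hba hbz haz hz
  have hab : f a b = 1 := by rw [← herm' hU, hba, map_one]
  have hrev : ∀ x, f (act g x) (act g x) = 0 → f x x = 0 := fun x hx => by
    obtain ⟨⟨y, hy⟩, e⟩ := (Finite.injective_iff_surjective (α := {y : Fin 3 → F // f y y = 0})
      (f := fun y => ⟨act g y.1, hg _ y.2⟩)).1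
      (fun y y' h => Subtype.ext (act_injective _ (congrArg Subtype.val h))) ⟨act g x, hx⟩
    rwa [← act_injective g (congrArg Subtype.val e)]
  obtain ⟨C, hC⟩ : ∃ C, C = f (act g a) (act g b) := ⟨_, rfl⟩
  obtain ⟨Z, hZ⟩ : ∃ Z, Z = f (act g z) (act g z) := ⟨_, rfl⟩
  have hZσ : σ Z = Z := by rw [hZ, herm' hU]
  have hdσ : σ (f z z) = f z z := herm' hU z z
  have hZ0 : Z ≠ 0 := fun h => hz (hrev z (hZ ▸ h))
  have hkill : ∀ u, f u u = 0 → f u z = 0 → f (act g u) (act g z) = 0 := by
    intro u hu huz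
    by_contra hR
    obtain ⟨R, hRdef⟩ : ∃ R, R = f (act g u) (act g z) := ⟨_, rfl⟩
    rw [← hRdef] at hR
    obtain ⟨μ, hμ⟩ := exists_trace hU.involutive hU.ne_refl (-Z) (by rw [map_neg, hZσ])
    have hμ0 : μ ≠ 0 := by rintro rfl; simp at hμ; exact hZ0 hμ
    have hσμ : σ μ ≠ 0 := (map_ne_zero σ).2 hμ0
    have h := hrev (u + (μ⁻¹ * R) • z) (by
      rw [map_add, map_smul, add_left hU, add_right hU, add_right hU, smul_left hU, smul_left hU, smul_right hU,
        smul_right hU, hg u hu, ← hRdef, ← hZ, ← herm' hU (act g u) (act g z), ← hRdef, map_mul, map_inv₀]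
      field_simp
      linear_combination R * σ R * hμ)
    rw [add_left hU, add_right hU, add_right hU, smul_left hU, smul_left hU, smul_right hU, smul_right hU, hu, huz,
      eq_zero_symm hU huz] at h
    simp only [mul_zero, zero_add] at h
    have hne : μ⁻¹ * R ≠ 0 := mul_ne_zero (inv_ne_zero hμ0) hR
    exact hz ((mul_eq_zero.1 ((mul_eq_zero.1 h).resolve_left hne)).resolve_left ((map_ne_zero σ).2 hne))
  have hga := hg a ha
  have hgb := hg b hb
  have hR : f (act g a) (act g z) = 0 := hkill a ha haz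
  have hS : f (act g b) (act g z) = 0 := hkill b hb hbz
  have hexp : ∀ α β γ α' β' γ' : F, f (act g (α • a + β • b + γ • z)) (act g (α' • a + β' • b + γ' • z)) =
      α * σ β' * C + β * σ α' * σ C + γ * σ γ' * Z := fun α β γ α' β' γ' => by
    simp only [map_add, map_smul, add_left hU, add_right hU, smul_left hU, smul_right hU, hga, hgb, hR, hS,
      eq_zero_symm hU hR, eq_zero_symm hU hS, ← hC, ← hZ]
    rw [← herm' hU (act g a) (act g b), ← hC]
    ring
  have hexp0 : ∀ α β γ α' β' γ' : F, f (α • a + β • b + γ • z) (α' • a + β' • b + γ' • z) =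
      α * σ β' + β * σ α' + γ * σ γ' * f z z := fun α β γ α' β' γ' => by
    simp only [add_left hU, add_right hU, smul_left hU, smul_right hU, ha, hb, haz, hbz,
      eq_zero_symm hU haz, eq_zero_symm hU hbz, hab, hba]
    ring
  have hCσ : σ C = C := by
    obtain ⟨c, hc0, hc⟩ := exists_skew hU.ne_refl hU.involutive
    have h := hexp 1 c 0 1 c 0
    rw [hg _ (by rw [hexp0, map_one, map_zero]; linear_combination hc), map_one, map_zero] at h
    exact mul_left_cancel₀ hc0 (by linear_combination -h - C * hc)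
  have hZC : Z = f z z * C := by
    obtain ⟨e, he⟩ := exists_trace hU.involutive hU.ne_refl (-(f z z)) (by rw [map_neg, hdσ])
    have h := hexp 1 e 1 1 e 1
    rw [hg _ (by rw [hexp0, map_one]; linear_combination he), map_one, hCσ] at h
    linear_combination -h - C * he
  have hC0 : C ≠ 0 := fun h => hZ0 (by rw [hZC, h, mul_zero])
  refine ⟨Units.mk0 C hC0, fun x y => ?_⟩
  rw [← act_apply, ← act_apply, hdec x, hdec y, hexp, hexp0, hZC, hCσ, Units.val_mk0]
  ring

/-- The quasi-reflection with vector `x` and factor `l`. -/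
theorem exists_qrefl {x : Fin 3 → F} (hx : f x x ≠ 0) {l : F} (hl : l * σ l = 1) :
    ∃ r : GL (Fin 3) F, r ∈ uiso f ∧ (r : Matrix (Fin 3) (Fin 3) F).det = l ∧
      ∀ y, act r y = y + ((l - 1) * (f y x / f x x)) • x := by
  obtain ⟨φ, hφ⟩ : ∃ φ : (Fin 3 → F) →ₗ[F] F, φ = ((l - 1) / f x x) • flinU hU x := ⟨_, rfl⟩
  have hφy : ∀ y, φ y = (l - 1) * (f y x / f x x) := fun y => by rw [hφ]; simp [flinU_apply]; ring
  have hl0 : l ≠ 0 := left_ne_zero_of_mul_eq_one hl
  obtain ⟨L, hL⟩ : ∃ L : (Fin 3 → F) →ₗ[F] (Fin 3 → F), L = LinearMap.id + φ.smulRight x := ⟨_, rfl⟩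
  obtain ⟨L', hL'⟩ : ∃ L' : (Fin 3 → F) →ₗ[F] (Fin 3 → F), L' = LinearMap.id - (l⁻¹ • φ).smulRight x := ⟨_, rfl⟩
  have h1 : L ∘ₗ L' = LinearMap.id := LinearMap.ext fun y => by
    simp [hL, hL', hφy, sub_left hU, smul_left hU]
    match_scalars <;> field_simp <;> ring
  have h3 : L' ∘ₗ L = LinearMap.id := LinearMap.ext fun y => by
    simp [hL, hL', hφy, add_left hU, smul_left hU]
    match_scalars <;> field_simp <;> ring
  obtain ⟨r, hr⟩ : ∃ r : GL (Fin 3) F, ∀ y, act r y = L y :=
    ⟨⟨LinearMap.toMatrix' L, LinearMap.toMatrix' L', by rw [← LinearMap.toMatrix'_comp, h1, LinearMap.toMatrix'_id],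
      by rw [← LinearMap.toMatrix'_comp, h3, LinearMap.toMatrix'_id]⟩, fun y => by simp [act_apply]⟩
  have hry : ∀ y, act r y = y + φ y • x := fun y => by rw [hr, hL]; simp
  refine ⟨r, ?_, ?_, fun y => by rw [hry, hφy]⟩
  · rw [mem_uiso]
    intro y y'
    simp only [hry, hφy, add_left hU, add_right hU, smul_left hU, smul_right hU, map_mul, map_sub, map_one,
      map_div₀, herm' hU]
    field_simp
    linear_combination (f y x * f x y') * hl
  · rw [det_eq_of_fix_hyperplane hry, hφy, div_self hx]; ring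

omit hU in
/-- Determinant one isometries in `M`. -/
def Big (f : (Fin 3 → F) → (Fin 3 → F) → F) (M : Subgroup (GL (Fin 3) F)) : Prop :=
  ∀ h ∈ uiso f, h ∈ Cfsg.Geo.specialLinear (Fin 3) F → h ∈ M

/-- The special unitary group moves a non-isotropic point to every other. -/
theorem exists_map {M : Subgroup (GL (Fin 3) F)} (hM : Big f M) {A W : Fin 3 → F} (hA : f A A ≠ 0)
    (hW : f W W ≠ 0) : ∃ h ∈ M, h ∈ uiso f ∧ ∃ l : F, l ≠ 0 ∧ act h A = l • W := by
  obtain ⟨e, he⟩ : ∃ e, e = f A A := ⟨_, rfl⟩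
  have heσ : σ e = e := by rw [he, herm' hU]
  obtain ⟨s, hs⟩ := exists_norm hU.involutive hU.ne_refl (e / f W W) (by rw [map_div₀, heσ, herm' hU])
  have hs0 : s ≠ 0 := by
    rintro rfl
    rw [zero_mul, eq_comm, div_eq_zero_iff] at hs
    exact hs.elim (he ▸ hA) hW
  -- a multiple of the target of equal value, off the first product
  obtain ⟨l, hl0, hlW, hlt⟩ : ∃ l : F, l ≠ 0 ∧ f (l • W) (l • W) = e ∧ f A (l • W) ≠ e := by
    have hval : f (s • W) (s • W) = e := by
      rw [smul_left hU, smul_right hU, ← mul_assoc, hs, div_mul_cancel₀ _ hW]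
    by_cases h : f A (s • W) = e
    · obtain ⟨a, ha⟩ := exists_moved hU.ne_refl
      have ha0 : a ≠ 0 := by rintro rfl; simp at ha
      have hσa : σ a ≠ 0 := (map_ne_zero σ).2 ha0
      refine ⟨σ a / a * s, mul_ne_zero (div_ne_zero hσa ha0) hs0, ?_, ?_⟩
      · rw [← smul_smul, smul_left hU, smul_right hU, hval, map_div₀, hU.involutive]
        field_simp
      · rw [← smul_smul, smul_right hU, h, map_div₀, hU.involutive]
        intro h'
        have h'' : (a / σ a - 1) * e = 0 := by linear_combination h'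
        have := (mul_eq_zero.1 h'').resolve_right (he ▸ hA)
        rw [sub_eq_zero, div_eq_one_iff_eq hσa] at this
        exact ha this.symm
    · exact ⟨s, hs0, hval, h⟩
  obtain ⟨W', hW'⟩ : ∃ W', W' = l • W := ⟨_, rfl⟩
  rw [← hW'] at hlW hlt
  obtain ⟨x, hxdef⟩ : ∃ x, x = A - W' := ⟨_, rfl⟩
  have hfAx : f A x = e - f A W' := by rw [hxdef, sub_right hU, ← he]
  have hxx : f x x = (e - f A W') + σ (e - f A W') := by
    rw [hxdef, sub_left hU, sub_right hU, sub_right hU, ← he, hlW, map_sub, heσ, herm' hU]; ring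
  have hne : e - f A W' ≠ 0 := sub_ne_zero.2 (Ne.symm hlt)
  by_cases h0 : f x x = 0
  · have hc : -(1 / (e - f A W')) + σ (-(1 / (e - f A W'))) = 0 := by
      have hσ : σ (e - f A W') = -(e - f A W') := eq_neg_of_add_eq_zero_right (hxx.symm.trans h0)
      rw [map_neg, map_div₀, map_one, hσ]
      field_simp
      ring
    refine ⟨utv hU x (-(1 / (e - f A W'))), hM _ (utv_mem hU h0 hc)
      (det_ptv hU (by rw [smul_right hU, h0, mul_zero])), utv_mem hU h0 hc, l, hl0, ?_⟩
    rw [act_utv hU h0, hfAx, ← hW', neg_mul, one_div_mul_cancel hne, hxdef]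
    module
  · obtain ⟨m, hm⟩ : ∃ m, m = -σ (e - f A W') / (e - f A W') := ⟨_, rfl⟩
    have hm1 : m * σ m = 1 := by
      rw [hm, map_div₀, map_neg, hU.involutive]
      have := (map_ne_zero σ).2 hne
      field_simp
    obtain ⟨r, hr, hdet, hry⟩ := exists_qrefl hU h0 hm1
    have hrA : act r A = W' := by
      rw [hry, hfAx, show (m - 1) * ((e - f A W') / f x x) = -1 by
        rw [hm]; field_simp; linear_combination hxx, hxdef]
      module
    obtain ⟨y, hyW, hyy⟩ := exists_perp_aniso hU (show f W' W' ≠ 0 by rw [hlW, he]; exact hA)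
    have hm' : σ m * σ (σ m) = 1 := by rw [hU.involutive, mul_comm, hm1]
    obtain ⟨r', hr', hdet', hry'⟩ := exists_qrefl hU hyy hm'
    refine ⟨r' * r, hM _ ((uiso f).mul_mem hr' hr) (MonoidHom.mem_ker.2 (Units.ext ?_)),
      (uiso f).mul_mem hr' hr, l, hl0, ?_⟩
    · rw [Matrix.GeneralLinearGroup.val_det_apply, Units.val_mul, Matrix.det_mul, hdet, hdet', mul_comm, hm1,
        Units.val_one]
    · rw [act_mul, hrA, hry', eq_zero_symm hU hyW]
      simp [hW']

theorem flinU_ne {w : Fin 3 → F} (hw : w ≠ 0) : flinU hU w ≠ 0 := fun h => by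
  obtain ⟨x, hx⟩ := (hU.nondegenerate w hw).1
  exact hx (by simpa [flinU_apply] using LinearMap.congr_fun h x)

theorem flinU_comp {h : GL (Fin 3) F} (hh : h ∈ uiso f) (w : Fin 3 → F) :
    flinU hU (act h w) ∘ₗ act h = flinU hU w :=
  LinearMap.ext fun x => mem_uiso.1 hh x w

theorem flinU_smul (a : F) (w : Fin 3 → F) : flinU hU (a • w) = σ a • flinU hU w :=
  LinearMap.ext fun x => by simp [flinU_apply, smul_right hU]

/-- The isotropic points with their polars are flags. -/
theorem flag_iso {M : Subgroup (GL (Fin 3) F)} (hM : Big f M) {u : Fin 3 → F} (hu : f u u = 0) :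
    Flag M u (flinU hU u) := by
  obtain ⟨c, hc0, hc⟩ := exists_skew hU.ne_refl hU.involutive
  refine ⟨hu, c, hc0, ?_⟩
  have e : tv (flinU hU u) (c • u) = utv hU u c := gl_ext fun x => by
    rw [act_tv (by rw [map_smul, flinU_apply, hu, smul_zero]), act_utv hU hu, flinU_apply, smul_smul, mul_comm]
  rw [e]
  exact hM _ (utv_mem hU hu hc) (det_ptv hU (by rw [smul_right hU, hu, mul_zero]))

/-- An element outside gives everything. -/
theorem specialLinear_le {M : Subgroup (GL (Fin 3) F)} (hM : Big f M) {g : GL (Fin 3) F} (hg : g ∈ M)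
    {a : Fin 3 → F} (ha : f a a = 0) (hA : f (act g a) (act g a) ≠ 0) :
    Cfsg.Geo.specialLinear (Fin 3) F ≤ M := by
  have ha0 : a ≠ 0 := fun h => hA (by rw [h, map_zero, zero_left hU])
  obtain ⟨A, hAdef⟩ : ∃ A, A = act g a := ⟨_, rfl⟩
  rw [← hAdef] at hA
  have hflag : Flag M A (flinU hU a ∘ₗ act g⁻¹) := by
    obtain ⟨h0, c, hc, hm⟩ := flag_iso hU hM ha
    refine ⟨by rw [hAdef, LinearMap.comp_apply, act_inv_act]; exact h0, c, hc, ?_⟩
    rw [hAdef, ← map_smul]
    exact conj_mem hg (by simp [h0]) hm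
  have hA0 : A ≠ 0 := fun h => hA (by rw [h, zero_left hU])
  have hcomp_ne : ∀ {φ : (Fin 3 → F) →ₗ[F] F} (n : GL (Fin 3) F), φ ≠ 0 → φ ∘ₗ act n ≠ 0 := fun {φ} n hφ h =>
    hφ (LinearMap.ext fun x => by simpa [act_act_inv] using LinearMap.congr_fun h (act n⁻¹ x))
  have hcA : Centre M A := ⟨hA0, _, hcomp_ne g⁻¹ (flinU_ne hU ha0), hflag⟩
  -- every point is a centre
  have hcent : ∀ W, W ≠ 0 → Centre M W := by
    intro W hW0
    by_cases hW : f W W = 0
    · exact ⟨hW0, _, flinU_ne hU hW0, flag_iso hU hM hW⟩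
    obtain ⟨h, hh, -, l, hl, hhA⟩ := exists_map hU hM hA hW
    obtain ⟨-, φ, hφ, hφv, c, hc, hm⟩ := hcA
    have h1 := conj_mem hh (φ := φ) (v := c • A) (by simp [hφv]) hm
    rw [map_smul, hhA, smul_smul] at h1
    refine ⟨hW0, _, hcomp_ne h⁻¹ hφ, ?_, c * l, mul_ne_zero hc hl, h1⟩
    have h3 := congrArg (act h⁻¹) hhA
    rw [act_inv_act, map_smul] at h3
    rw [LinearMap.comp_apply, show act h⁻¹ W = l⁻¹ • A by rw [h3, inv_smul_smul₀ hl], map_smul, hφv, smul_zero]
  -- some polar of a non-isotropic point is an axis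
  obtain ⟨W₁, hW₁, hax⟩ : ∃ W, f W W ≠ 0 ∧ Axis M (flinU hU W) := by
    obtain ⟨w, hw⟩ := Cfsg.Agent.MaxCl.Unit.exists_repr hU (flinU hU a ∘ₗ act g⁻¹)
    have hφw : flinU hU a ∘ₗ act g⁻¹ = flinU hU w := LinearMap.ext fun x => hw x
    have hw0 : w ≠ 0 := fun h => hcomp_ne g⁻¹ (flinU_ne hU ha0) (by
      rw [hφw, h]; exact LinearMap.ext fun x => zero_right hU x)
    rw [hφw] at hflag
    by_cases hww : f w w = 0
    swap
    · exact ⟨w, hww, flinU_ne hU hw0, A, hA0, hflag⟩
    have hwA : f w A = 0 := eq_zero_symm hU hflag.1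
    obtain ⟨b, hb, hbA, hbw⟩ := exists_partner' hU hA hww hw0 hwA
    obtain ⟨k, hk, hm⟩ := hflag.2
    obtain ⟨e1, he1⟩ := exists_trace_one hU.involutive hU.ne_refl
    obtain ⟨γ, hγ⟩ : ∃ γ, γ = σ (e1 / (k * f A A)) := ⟨_, rfl⟩
    have hdσ : σ (f A A) = f A A := herm' hU A A
    obtain ⟨e, he⟩ := exists_trace hU.involutive hU.ne_refl (-(γ * σ γ * f A A))
      (by rw [map_neg, map_mul, map_mul, hU.involutive, hdσ]; ring)
    obtain ⟨c, hcdef⟩ : ∃ c, c = e • w + b + γ • A := ⟨_, rfl⟩
    have hwb : f w b = 1 := by rw [← herm' hU, hbw, map_one]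
    have hcc : f c c = 0 := by
      simp only [hcdef, add_left hU, add_right hU, smul_left hU, smul_right hU, hww, hb, hwA, hbA,
        eq_zero_symm hU hwA, eq_zero_symm hU hbA, hwb, hbw, mul_zero, add_zero, zero_add, mul_one]
      linear_combination he
    have hc0 : c ≠ 0 := fun h => by
      have := congrArg (fun v => f v w) h
      simp only [hcdef, add_left hU, smul_left hU, hww, hbw, eq_zero_symm hU hwA, zero_left hU] at this
      simp at this
    have hfAc : f A c = σ γ * f A A := by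
      simp only [hcdef, add_right hU, smul_right hU, eq_zero_symm hU hwA, eq_zero_symm hU hbA, mul_zero, zero_add]
    obtain ⟨W, hW⟩ : ∃ W, W = c + σ (k * f A c) • w := ⟨_, rfl⟩
    have hkf : k * f A c = e1 := by
      rw [hfAc, hγ, hU.involutive]
      field_simp
    have hcw : f c w = 1 := by
      simp only [hcdef, add_left hU, smul_left hU, hww, hbw, eq_zero_symm hU hwA, mul_zero, zero_add, add_zero]
    refine ⟨W, ?_, ?_⟩
    · rw [hW, hkf]
      simp only [add_left hU, add_right hU, smul_left hU, smul_right hU, hcc, hww, hcw, hU.involutive,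
        show f w c = 1 by rw [← herm' hU, hcw, map_one], mul_one, mul_zero, zero_add, add_zero]
      rw [he1]
      exact one_ne_zero
    · have h0 : flinU hU w (k • A) = 0 := by rw [map_smul, hflag.1, smul_zero]
      have e' : flinU hU W = flinU hU c ∘ₗ act (tv (flinU hU w) (k • A)) := LinearMap.ext fun x => by
        simp only [LinearMap.comp_apply, act_tv h0, flinU_apply, hW, add_right hU, smul_right hU, hU.involutive,
          add_left hU, smul_left hU]
        ring
      obtain ⟨hc1, c', hc', hm'⟩ := flag_iso hU hM hcc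
      have h1 := conj_mem (M.inv_mem hm) (φ := flinU hU c) (v := c' • c) (by simp [hc1]) hm'
      rw [inv_inv, ← e'] at h1
      have hWc : flinU hU W (act (tv (flinU hU w) (k • A))⁻¹ c) = 0 := by
        rw [e', LinearMap.comp_apply, act_act_inv]; exact hc1
      refine ⟨fun h => flinU_ne hU hc0 ?_, act (tv (flinU hU w) (k • A))⁻¹ c,
        fun h => hc0 (act_injective _ (h.trans (map_zero _).symm)), hWc, c', hc', by rwa [map_smul] at h1⟩
      rw [e'] at h
      exact LinearMap.ext fun x => by simpa [act_act_inv] using LinearMap.congr_fun h (act (tv (flinU hU w) (k • A))⁻¹ x)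
  have haxis : ∀ φ : (Fin 3 → F) →ₗ[F] F, φ ≠ 0 → Axis M φ := by
    intro φ hφ
    obtain ⟨W, hW⟩ := Cfsg.Agent.MaxCl.Unit.exists_repr hU φ
    have hφW : φ = flinU hU W := LinearMap.ext fun x => hW x
    have hW0 : W ≠ 0 := fun h => hφ (by rw [hφW, h]; exact LinearMap.ext fun x => zero_right hU x)
    rw [hφW]
    by_cases hWW : f W W = 0
    · exact ⟨flinU_ne hU hW0, W, hW0, flag_iso hU hM hWW⟩
    obtain ⟨h, hh, hiso, l, hl, hhW⟩ := exists_map hU hM hWW hW₁
    obtain ⟨-, v, hv, hvφ, c, hc, hm⟩ := hax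
    have h1 := conj_mem (M.inv_mem hh) (φ := flinU hU W₁) (v := c • v) (by simp [hvφ]) hm
    rw [inv_inv] at h1
    have e : flinU hU W₁ ∘ₗ act h = σ l⁻¹ • flinU hU W := by
      rw [show W₁ = l⁻¹ • act h W by rw [hhW, inv_smul_smul₀ hl], flinU_smul hU, LinearMap.smul_comp,
        flinU_comp hU hiso]
    rw [e] at h1
    have hσl : σ l⁻¹ ≠ 0 := (map_ne_zero σ).2 (inv_ne_zero hl)
    have hWv : flinU hU W (act h⁻¹ v) = 0 := by
      have := LinearMap.congr_fun e (act h⁻¹ v)
      rw [LinearMap.comp_apply, act_act_inv, hvφ, LinearMap.smul_apply, smul_eq_mul, eq_comm, mul_eq_zero] at this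
      exact this.resolve_left hσl
    refine ⟨flinU_ne hU hW0, act h⁻¹ v, fun h0 => hv (act_injective _ (h0.trans (map_zero _).symm)), hWv,
      σ l⁻¹ * c, mul_ne_zero hσl hc, ?_⟩
    rw [map_smul, tv_smul_swap _ _ _ (by simp [hWv]), smul_smul] at h1
    exact h1
  exact sl_le_of_all_centres hcent haxis

omit hU

end Cfsg.Agent.MaxCl.SLThree.Herm

namespace Cfsg.Agent.MaxCl.SLThree

open scoped MatrixGroups Matrix
open Cfsg.Agent.MaxCl.Unit

/-- **The similarities of a unitary form are maximal in `SL₃`.** -/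
theorem unitary_maximal {F : Type*} [Field F] [Fintype F] :
    ∀ (σ : F ≃+* F) (f : (Fin 3 → F) → (Fin 3 → F) → F), Cfsg.Geo.IsUnitaryForm σ f →
      Cfsg.Geo.IsMaximalIn (Cfsg.Geo.specialLinear (Fin 3) F)
        (Cfsg.Geo.similarityGroup f ⊓ Cfsg.Geo.specialLinear (Fin 3) F) := by
  intro σ f hU
  obtain ⟨v, hv⟩ : ∃ v : Fin 3 → F, v ≠ 0 := exists_ne 0
  refine Orth.isMaximalIn_inf ?_ fun M hM hMK hout => ?_
  · obtain ⟨z, hz⟩ : ∃ z, f z z ≠ 0 := by
      by_contra h
      push Not at h
      obtain ⟨x, hx⟩ := (hU.nondegenerate v hv).2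
      obtain ⟨e, he⟩ := exists_trace_one hU.involutive hU.ne_refl
      have h1 := h (v + σ (e / f v x) • x)
      rw [add_left hU, add_right hU, add_right hU, smul_left hU, smul_left hU, smul_right hU, smul_right hU,
        h v, h x, hU.involutive, div_mul_cancel₀ _ hx, ← herm' hU v x] at h1
      simp only [mul_zero, zero_add, add_zero] at h1
      rw [← map_mul, div_mul_cancel₀ _ hx, he] at h1
      exact one_ne_zero h1
    obtain ⟨a, ha0, ha, haz⟩ := Herm.exists_iso_perp hU hz
    obtain ⟨b, hb, hbz, hba⟩ := Herm.exists_partner' hU hz ha ha0 haz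
    obtain ⟨e, he⟩ := exists_trace_one hU.involutive hU.ne_refl
    have h0 : f a (σ e • a) = 0 := by rw [smul_right hU, ha, mul_zero]
    refine ⟨ptv hU a (σ e • a), det_ptv hU h0, fun ⟨c, hc⟩ => ?_⟩
    have hab : f a b = 1 := by rw [← herm' hU, hba, map_one]
    have h1 := hc b b
    rw [← act_apply, act_ptv hU h0, smul_right hU, hU.involutive, hba, mul_one, add_left hU, add_right hU,
      add_right hU, smul_left hU, smul_left hU, smul_right hU, smul_right hU, hb, ha, hba, hab, mul_zero,
      mul_one, mul_one, mul_zero, mul_zero, zero_add, add_zero] at h1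
    exact one_ne_zero (show (1 : F) = 0 by linear_combination h1 - he)
  obtain ⟨g, hg, hgs⟩ := hout
  have hbig : Herm.Big f M := fun h hh hd =>
    hM ⟨⟨1, fun x y => by rw [Units.val_one, one_mul]; exact hh x y⟩, hd⟩
  obtain ⟨a, ha, hA⟩ : ∃ a, f a a = 0 ∧ f (act g a) (act g a) ≠ 0 := by
    by_contra h
    push Not at h
    exact hgs (Herm.similarity_of_cone hU g h)
  exact Herm.specialLinear_le hU hbig hg ha hA

end Cfsg.Agent.MaxCl.SLThree
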